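import Groth.Agent.ParaF.K589.ElkikNewton
import Groth.Agent.S0526
import Groth.Agent.S0528
import Mathlib.RingTheory.Flat.Basic
import Mathlib.RingTheory.Flat.EquationalCriterion
import Mathlib.RingTheory.Regular.RegularSequence

/-!
# Elkik's approximation theorem

* `exists_solution_of_bounded`: the principal case `(B, (t))` with bounded `t`-torsion.
* `GoodSeq`: the inductive condition on a sequence of elements used for a general ideal.
* `exists_solution_of_goodSeq`: approximation for the ideal generated by a good sequence, uniformly in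
  the base change `R → B`.
* `goodSeq_of_flat`: a finite sequence coming from a Noetherian ring over which `B` is flat is good.
-/

set_option autoImplicit false
universe u v

namespace K589.ElkikGeneral

open MvPolynomial K589.ElkikNewton

theorem henselian_quotient {B : Type u} [CommRing B] (I K : Ideal B) (h : HenselianRing B I) :
    HenselianRing (B ⧸ K) (I.map (Ideal.Quotient.mk K)) := by
  have := h
  exact Groth.Agent.S0526.result B I (B ⧸ K)

theorem henselian_of_le {B : Type u} [CommRing B] {I J : Ideal B} (hIJ : I ≤ J) (h : HenselianRing B J) :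
    HenselianRing B I := ((Groth.Agent.S0528.result B I J hIJ).1 h).1

theorem eval_map_apply {R B : Type*} [CommRing R] [CommRing B] (π : R →+* B) {ι : Type*} (y : ι → R)
    (p : MvPolynomial ι R) : eval (fun j => π (y j)) (MvPolynomial.map π p) = π (eval y p) :=
  (eval_map π _ p).trans (eval₂_comp π y p).symm

section Bounded

variable {B : Type u} [CommRing B] {ι κ : Type} [Fintype ι] [Fintype κ] [DecidableEq ι] [DecidableEq κ]

/-- Elkik approximation for a principal ideal with bounded torsion. -/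
theorem exists_solution_of_bounded (t : B) (c : ℕ) (hc : ∀ (j : ℕ) (b : B), t ^ j * b = 0 → t ^ c * b = 0)
    (hh : HenselianRing B (Ideal.span {t}))
    (f : κ → MvPolynomial ι B) (k : ℕ) (S : Matrix ι κ (MvPolynomial ι B)) (hS : Cert t f k S)
    (N : ℕ) (hN : 2 * k < N) (hNc : c + k ≤ N) (x : ι → B) (hx : ∀ i, t ^ N ∣ eval x (f i)) :
    ∃ y : ι → B, (∀ i, eval y (f i) = 0) ∧ ∀ j, t ^ (N - k) ∣ y j - x j := by
  let 𝔷 : Ideal B :=
    { carrier := {b | t ^ c * b = 0}
      add_mem' := fun {a b} ha hb => by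
        simp only [Set.mem_ofPred_eq] at ha hb ⊢
        rw [mul_add, ha, hb, add_zero]
      zero_mem' := by simp
      smul_mem' := fun r b hb => by
        simp only [Set.mem_ofPred_eq, smul_eq_mul] at hb ⊢
        rw [mul_left_comm, hb, mul_zero] }
  have h𝔷 : ∀ b : B, b ∈ 𝔷 ↔ t ^ c * b = 0 := fun b => Iff.rfl
  let π : B →+* B ⧸ 𝔷 := Ideal.Quotient.mk 𝔷
  have hB' : HenselianRing (B ⧸ 𝔷) (Ideal.span {π t}) := by
    have := henselian_quotient _ 𝔷 hh
    rwa [Ideal.map_span, Set.image_singleton] at this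
  have ht' : ∀ b : B ⧸ 𝔷, π t * b = 0 → b = 0 := by
    intro b hb
    obtain ⟨b, rfl⟩ := Ideal.Quotient.mk_surjective b
    rw [← map_mul, Ideal.Quotient.eq_zero_iff_mem, h𝔷] at hb
    rw [Ideal.Quotient.eq_zero_iff_mem, h𝔷]
    exact hc (c + 1) b (by rw [← hb]; ring)
  obtain ⟨y', hy', hxy'⟩ := exists_solution (π t) ht' _ k _ (hS.map π) N hN (fun j => π (x j)) (fun i => by
    rw [eval_map_apply, ← map_pow]
    exact map_dvd π (hx i))
  choose z' hz' using hxy'
  choose z hz using fun j => Ideal.Quotient.mk_surjective (z' j)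
  have hy : ∀ j, y' j = π (x j + t ^ (N - k) * z j) := by
    intro j
    rw [map_add, map_mul, map_pow]
    change _ = _ + _ * Ideal.Quotient.mk 𝔷 (z j)
    rw [hz j, ← hz' j]
    ring
  refine ⟨fun j => x j + t ^ (N - k) * z j, fun i => ?_, fun j => ⟨z j, by ring⟩⟩
  have h1 : t ^ c * eval (fun j => x j + t ^ (N - k) * z j) (f i) = 0 := by
    rw [← h𝔷, ← Ideal.Quotient.eq_zero_iff_mem]
    change π _ = 0
    rw [← eval_map_apply, ← hy' i]
    congr 2
    exact funext fun j => (hy j).symm
  obtain ⟨q, hq⟩ := taylor1 (f i) x z (t ^ (N - k))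
  rw [aeval_eq_eval, aeval_eq_eval] at hq
  change eval _ (f i) = _ at hq
  obtain ⟨d, hd⟩ := hx i
  change eval x (f i) = _ at hd
  have h2 : eval (fun j => x j + t ^ (N - k) * z j) (f i) = t ^ (N - k) * (t ^ k * d + q) := by
    rw [hq]
    change eval x (f i) + _ = _
    rw [hd]
    have : t ^ N = t ^ (N - k) * t ^ k := by rw [← pow_add]; congr 1; omega
    rw [this]; ring
  rw [h2] at h1 ⊢
  have h3 : t ^ (c + (N - k)) * (t ^ k * d + q) = 0 := by
    rw [← h1]; ring
  have h4 := hc _ _ h3
  have h5 : t ^ (N - k) = t ^ (N - k - c) * t ^ c := by rw [← pow_add]; congr 1; omega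
  rw [h5, mul_assoc, h4, mul_zero]

end Bounded

/-- A list of elements `t :: ts` is good if the `t`-torsion is bounded and the rest is good modulo every
power of `t`. -/
inductive GoodSeq : (B : Type u) → CommRing B → List B → Prop
  | nil (B : Type u) (inst : CommRing B) : GoodSeq B inst []
  | cons (B : Type u) (inst : CommRing B) (t : B) (ts : List B) (c : ℕ)
      (hc : ∀ (j : ℕ) (b : B), t ^ j * b = 0 → t ^ c * b = 0)
      (h : ∀ N : ℕ, GoodSeq (B ⧸ Ideal.span {t ^ N}) (Ideal.Quotient.commRing _)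
        (ts.map (Ideal.Quotient.mk (Ideal.span {t ^ N})))) : GoodSeq B inst (t :: ts)

/-- **Elkik's approximation theorem** for the ideal generated by a good sequence, uniformly in `R → B`. -/
theorem exists_solution_of_goodSeq {R : Type v} [CommRing R] {ι κ : Type} [Fintype ι] [Fintype κ]
    [DecidableEq ι] [DecidableEq κ] (f : κ → MvPolynomial ι R) {B : Type u} {inst : CommRing B} {ts : List B}
    (hg : GoodSeq B inst ts) : HenselianRing B (Ideal.ofList ts) → ∀ (Ts : List R),
    (∀ T ∈ Ts, ∃ (k : ℕ) (S : Matrix ι κ (MvPolynomial ι R)), Cert T f k S) → ∀ n : ℕ, ∃ N : ℕ,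
    ∀ (φ : R →+* B), Ts.map φ = ts → ∀ x : ι → B, (∀ i, eval₂ φ x (f i) ∈ Ideal.ofList ts ^ N) →
    ∃ y : ι → B, (∀ i, eval₂ φ y (f i) = 0) ∧ ∀ j, y j - x j ∈ Ideal.ofList ts ^ n := by
  induction hg with
  | nil B inst =>
    intro hh Ts hTs n
    refine ⟨1, fun φ hφ x hx => ⟨x, fun i => ?_, fun j => by rw [sub_self]; exact zero_mem _⟩⟩
    have := hx i
    rw [pow_one, Ideal.ofList_nil] at this
    exact this
  | cons B inst t ts c hc h ih =>
    intro hh Ts hTs n
    rcases Ts with _ | ⟨T, Ts⟩
    · exact ⟨0, fun φ hφ => absurd hφ (by simp)⟩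
    obtain ⟨k, S, hS⟩ := hTs T (by simp)
    let M : ℕ := 2 * k + 1 + c + n
    let K : Ideal B := Ideal.span {t ^ M}
    let π : B →+* B ⧸ K := Ideal.Quotient.mk K
    have hle : Ideal.span {t} ≤ Ideal.ofList (t :: ts) := by
      rw [Ideal.ofList_cons]; exact le_sup_left
    have hle2 : Ideal.ofList ts ≤ Ideal.ofList (t :: ts) := by
      rw [Ideal.ofList_cons]; exact le_sup_right
    have ht : HenselianRing B (Ideal.span {t}) := henselian_of_le hle hh
    have hh1 : HenselianRing (B ⧸ K) (Ideal.ofList (ts.map π)) := by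
      refine henselian_of_le ?_ (henselian_quotient _ K hh)
      rw [← Ideal.map_ofList]
      exact Ideal.map_mono hle2
    obtain ⟨N', hN'⟩ := ih M hh1 Ts (fun T' hT' => hTs T' (by simp [hT'])) n
    refine ⟨M + N', fun φ hφ x hx => ?_⟩
    obtain ⟨rfl, hφ'⟩ : φ T = t ∧ Ts.map φ = ts := by simpa using hφ
    have hpow : Ideal.ofList (φ T :: ts) ^ (M + N') ≤ K ⊔ Ideal.ofList ts ^ N' := by
      rw [Ideal.ofList_cons]
      refine (Ideal.sup_pow_add_le_pow_sup_pow).trans ?_
      rw [Ideal.span_singleton_pow]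
    obtain ⟨y₁, hy₁, hxy₁⟩ := hN' (π.comp φ) (by rw [RingHom.coe_comp, ← List.map_map, hφ']) (fun j => π (x j)) (fun i => by
      have h1 : π (eval₂ φ x (f i)) = eval₂ (π.comp φ) (fun j => π (x j)) (f i) :=
        eval₂_comp_left π φ x (f i)
      rw [← h1, ← Ideal.map_ofList, ← Ideal.map_pow]
      have h2 := Ideal.mem_map_of_mem π (hpow (hx i))
      rw [Ideal.map_sup, Ideal.map_quotient_self, bot_sup_eq] at h2
      exact h2)
    choose z hz using fun j => Ideal.Quotient.mk_surjective (y₁ j)
    have hz1 : ∀ i, (φ T) ^ M ∣ eval z (MvPolynomial.map φ (f i)) := by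
      intro i
      rw [← Ideal.mem_span_singleton, ← Ideal.Quotient.eq_zero_iff_mem]
      have h1 : π (eval₂ φ z (f i)) = eval₂ (π.comp φ) (fun j => π (z j)) (f i) :=
        eval₂_comp_left π φ z (f i)
      rw [eval_map]
      change π _ = 0
      rw [h1, ← hy₁ i]
      congr 1
      exact funext fun j => hz j
    obtain ⟨y, hy, hyz⟩ := exists_solution_of_bounded (φ T) c hc ht _ k _ (hS.map φ) M (by omega)
      (by omega) z hz1
    refine ⟨y, fun i => ?_, fun j => ?_⟩
    · have := hy i
      rwa [eval_map] at this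
    · have h1 : y j - z j ∈ Ideal.ofList (φ T :: ts) ^ n := by
        obtain ⟨d, hd⟩ := hyz j
        rw [hd]
        have h2 : φ T ^ (M - k) ∈ Ideal.ofList (φ T :: ts) ^ (M - k) :=
          Ideal.pow_mem_pow (hle (Ideal.mem_span_singleton_self _)) _
        exact Ideal.mul_mem_right _ _ (Ideal.pow_le_pow_right (by omega) h2)
      have h3 : z j - x j ∈ Ideal.ofList (φ T :: ts) ^ n := by
        have h4 := hxy₁ j
        rw [← hz j, ← Ideal.map_ofList, ← Ideal.map_pow] at h4
        change π (z j) - π (x j) ∈ _ at h4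
        rw [← map_sub, Ideal.mem_quotient_iff_mem_sup] at h4
        have h5 : Ideal.ofList ts ^ n ⊔ K ≤ Ideal.ofList (φ T :: ts) ^ n := by
          refine sup_le (Ideal.pow_right_mono hle2 n) ?_
          rw [Ideal.span_le, Set.singleton_subset_iff]
          have h2 : φ T ^ M ∈ Ideal.ofList (φ T :: ts) ^ M :=
            Ideal.pow_mem_pow (hle (Ideal.mem_span_singleton_self _)) _
          exact Ideal.pow_le_pow_right (by omega) h2
        exact h5 h4
      have h6 := add_mem h1 h3
      rwa [sub_add_sub_cancel] at h6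

section Flat

theorem bounded_of_noetherian {A : Type u} [CommRing A] [IsNoetherianRing A] (t : A) :
    ∃ c : ℕ, ∀ (j : ℕ) (b : A), t ^ j * b = 0 → t ^ c * b = 0 := by
  let F : ℕ →o Ideal A :=
    { toFun := fun j => LinearMap.ker (LinearMap.mulLeft A (t ^ j))
      monotone' := by
        intro a b hab x hx
        rw [LinearMap.mem_ker, LinearMap.mulLeft_apply] at hx ⊢
        rw [← Nat.sub_add_cancel hab, pow_add, mul_assoc, hx, mul_zero] }
  obtain ⟨c, hc⟩ := monotone_stabilizes_iff_noetherian.2 ‹_› F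
  refine ⟨c, fun j b hb => ?_⟩
  have h1 : b ∈ F (max j c) := by
    refine F.monotone (le_max_left j c) ?_
    exact hb
  rw [← hc (max j c) (le_max_right j c)] at h1
  exact h1

theorem bounded_of_flat {A B : Type u} [CommRing A] [CommRing B] [Algebra A B] [Module.Flat A B] (t : A)
    (c : ℕ) (hc : ∀ (j : ℕ) (b : A), t ^ j * b = 0 → t ^ c * b = 0) (j : ℕ) (b : B)
    (hb : algebraMap A B t ^ j * b = 0) : algebraMap A B t ^ c * b = 0 := by
  have h1 : ∑ i : Unit, (fun _ => t ^ j) i • (fun _ : Unit => b) i = 0 := by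
    simpa [Algebra.smul_def] using hb
  obtain ⟨k, a, y, hy, ha⟩ := Module.Flat.isTrivialRelation_of_sum_smul_eq_zero h1
  have h2 : b = ∑ i, a () i • y i := hy ()
  rw [h2, Finset.mul_sum]
  refine Finset.sum_eq_zero fun i _ => ?_
  have h3 : t ^ j * a () i = 0 := by simpa using ha i
  rw [Algebra.smul_def, ← mul_assoc, ← map_pow, ← map_mul, hc _ _ h3, map_zero, zero_mul]

theorem goodSeq_of_flat (n : ℕ) : ∀ (A B : Type u) [CommRing A] [IsNoetherianRing A] [inst : CommRing B]
    [Algebra A B] [Module.Flat A B] (ts : List A), ts.length = n →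
    GoodSeq B inst (ts.map (algebraMap A B)) := by
  induction n with
  | zero =>
    intro A B _ _ _ _ _ ts hts
    rw [List.length_eq_zero_iff] at hts
    subst hts
    exact GoodSeq.nil B _
  | succ n ih =>
    intro A B _ _ _ _ _ ts hts
    rcases ts with _ | ⟨t, ts⟩
    · simp at hts
    obtain ⟨c, hc⟩ := bounded_of_noetherian t
    refine GoodSeq.cons B _ _ _ c (fun j b hb => bounded_of_flat t c hc j b hb) fun N => ?_
    have key : ∀ J : Ideal B, J = (Ideal.span {t ^ N}).map (algebraMap A B) →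
        GoodSeq (B ⧸ J) (Ideal.Quotient.commRing J) ((ts.map (algebraMap A B)).map (Ideal.Quotient.mk J)) := by
      rintro J rfl
      have hfl : Module.Flat (A ⧸ Ideal.span {t ^ N}) (B ⧸ (Ideal.span {t ^ N}).map (algebraMap A B)) :=
        Module.Flat.of_linearEquiv
          (Algebra.TensorProduct.quotIdealMapEquivQuotTensor B (Ideal.span {t ^ N})).toLinearEquiv
      have h1 := ih (A ⧸ Ideal.span {t ^ N}) (B ⧸ (Ideal.span {t ^ N}).map (algebraMap A B))
        (ts.map (Ideal.Quotient.mk _)) (by simpa using hts)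
      rw [List.map_map] at h1 ⊢
      exact h1
    refine key _ ?_
    rw [Ideal.map_span, Set.image_singleton, map_pow]

/-- **Elkik's approximation theorem** for a henselian pair `(B, I)` with `B` flat over a Noetherian ring `A`
and `I` generated by elements `ts` of `A`: the order of approximation needed is uniform in `φ : R → B`. -/
theorem exists_solution_of_flat {R : Type v} [CommRing R] {ι κ : Type} [Fintype ι] [Fintype κ]
    [DecidableEq ι] [DecidableEq κ] (f : κ → MvPolynomial ι R) (A B : Type u) [CommRing A]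
    [IsNoetherianRing A] [CommRing B] [Algebra A B] [Module.Flat A B] (ts : List A)
    (hh : HenselianRing B (Ideal.ofList (ts.map (algebraMap A B)))) (Ts : List R)
    (hT : ∀ T ∈ Ts, ∃ (k : ℕ) (S : Matrix ι κ (MvPolynomial ι R)), Cert T f k S) (n : ℕ) :
    ∃ N : ℕ, ∀ (φ : R →+* B), Ts.map φ = ts.map (algebraMap A B) → ∀ x : ι → B,
    (∀ i, eval₂ φ x (f i) ∈ Ideal.ofList (ts.map (algebraMap A B)) ^ N) →
    ∃ y : ι → B, (∀ i, eval₂ φ y (f i) = 0) ∧
      ∀ j, y j - x j ∈ Ideal.ofList (ts.map (algebraMap A B)) ^ n :=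
  exists_solution_of_goodSeq f (goodSeq_of_flat _ A B ts rfl) hh Ts hT n

end Flat

end K589.ElkikGeneral
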