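import Groth.Agent.ParaF.K589.ElkikNewton
import Mathlib.RingTheory.Smooth.Basic
import Mathlib.RingTheory.Localization.Ideal
import Mathlib.RingTheory.Localization.Away.Basic

/-!
# Existence of the certificate of smoothness

`exists_cert_of_lift`: if solutions of the system `f` lift along square-zero extensions of rings in which
`T` is invertible, then the system has a certificate `Cert T f k S` (`t ^ k f = J S f` modulo `(f)²`).
`exists_cert_of_formallySmooth`: this is so when `(R[X]/(f))[1/T]` is formally smooth over `R`.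
-/

set_option autoImplicit false
universe u v

namespace K589.ElkikCert

open MvPolynomial K589.ElkikNewton

section Taylor

variable {B : Type*} [CommRing B] {ι : Type*} [Fintype ι] {C : Type*} [CommRing C] [Algebra B C]

theorem taylor_ideal [DecidableEq ι] (p : MvPolynomial ι B) (a h : ι → C) (I : Ideal C) (hI : ∀ j, h j ∈ I) :
    aeval (fun j => a j + h j) p - aeval a p ∈ I ∧
    aeval (fun j => a j + h j) p - aeval a p - ∑ j, aeval a (pderiv j p) * h j ∈ I ^ 2 := by
  induction p using MvPolynomial.induction_on with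
  | C b => simp
  | add p q hp hq =>
    constructor
    · have := add_mem hp.1 hq.1
      simp only [map_add]
      convert this using 1
      ring
    · have := add_mem hp.2 hq.2
      simp only [map_add, add_mul, Finset.sum_add_distrib]
      convert this using 1
      ring
  | mul_X p j hp =>
    have h1 : ∑ i, aeval a (pderiv i (p * X j)) * h i =
        (∑ i, aeval a (pderiv i p) * h i) * a j + aeval a p * h j := by
      have h2 : ∀ i, aeval a (pderiv i (p * X j)) * h i =
          aeval a (pderiv i p) * h i * a j + (if i = j then aeval a p * h i else 0) := by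
        intro i
        rw [Derivation.leibniz, pderiv_X, smul_eq_mul, smul_eq_mul, map_add, map_mul, map_mul, aeval_X]
        by_cases hij : i = j
        · subst hij
          simp only [Pi.single_eq_same, map_one, if_true]
          ring
        · rw [if_neg hij, Pi.single_eq_of_ne (Ne.symm hij)]
          simp only [map_zero]
          ring
      rw [Finset.sum_congr rfl fun i _ => h2 i, Finset.sum_add_distrib, Finset.sum_mul]
      simp
    constructor
    · rw [map_mul, map_mul, aeval_X, aeval_X]
      have h3 : aeval (fun j => a j + h j) p * (a j + h j) - aeval a p * a j =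
          (aeval (fun j => a j + h j) p - aeval a p) * (a j + h j) + aeval a p * h j := by ring
      rw [h3]
      exact add_mem (Ideal.mul_mem_right _ _ hp.1) (Ideal.mul_mem_left _ _ (hI j))
    · rw [h1, map_mul, map_mul, aeval_X, aeval_X]
      have h3 : aeval (fun j => a j + h j) p * (a j + h j) - aeval a p * a j -
          ((∑ i, aeval a (pderiv i p) * h i) * a j + aeval a p * h j) =
          (aeval (fun j => a j + h j) p - aeval a p - ∑ i, aeval a (pderiv i p) * h i) * a j +
          (aeval (fun j => a j + h j) p - aeval a p) * h j := by ring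
      rw [h3]
      refine add_mem (Ideal.mul_mem_right _ _ hp.2) ?_
      rw [sq]
      exact Ideal.mul_mem_mul hp.1 (hI j)

end Taylor

/-- **Certificate from lifting.** -/
theorem exists_cert_of_lift {R : Type u} [CommRing R] {ι κ : Type} [Fintype ι] [Fintype κ]
    [DecidableEq ι] (T : R) (f : κ → MvPolynomial ι R)
    (hlift : ∀ (D : Type u) [CommRing D] (φ : R →+* D), IsUnit (φ T) → ∀ (I : Ideal D), I ^ 2 = ⊥ →
      ∀ x : ι → D, (∀ i, eval₂ φ x (f i) ∈ I) →
      ∃ y : ι → D, (∀ i, eval₂ φ y (f i) = 0) ∧ ∀ j, y j - x j ∈ I) :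
    ∃ (k : ℕ) (S : Matrix ι κ (MvPolynomial ι R)), Cert T f k S := by
  classical
  let P := MvPolynomial ι R
  let F : Ideal P := Ideal.span (Set.range f)
  let Q := P ⧸ F ^ 2
  let τ : Q := Ideal.Quotient.mk (F ^ 2) (C T)
  let D := Localization.Away τ
  let g : P →+* D := (algebraMap Q D).comp (Ideal.Quotient.mk (F ^ 2))
  let φ : R →+* D := g.comp C
  have hg : ∀ p : P, eval₂ φ (fun j => g (X j)) p = g p := by
    intro p
    have : (eval₂Hom φ (fun j => g (X j))) = g := by
      apply MvPolynomial.ringHom_ext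
      · intro b; simp [φ]
      · intro j; simp
    exact DFunLike.congr_fun this p
  let I : Ideal D := F.map g
  have hI2 : I ^ 2 = ⊥ := by
    rw [← Ideal.map_pow, Ideal.map_eq_bot_iff_le_ker]
    intro p hp
    rw [RingHom.mem_ker]
    change algebraMap Q D (Ideal.Quotient.mk (F ^ 2) p) = 0
    rw [Ideal.Quotient.eq_zero_iff_mem.2 hp, map_zero]
  have hfF : ∀ i, f i ∈ F := fun i => Ideal.subset_span ⟨i, rfl⟩
  obtain ⟨y, hy, hyx⟩ := hlift D φ (IsLocalization.Away.algebraMap_isUnit τ) I hI2
    (fun j => g (X j)) (fun i => by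
      rw [hg]; exact Ideal.mem_map_of_mem g (hfF i))
  -- common denominators
  have hmem : ∀ j, ∃ (e : ℕ) (a : P), a ∈ F ∧ (y j - g (X j)) * g (C T) ^ e = g a := by
    intro j
    have h1 : y j - g (X j) ∈ (F.map (Ideal.Quotient.mk (F ^ 2))).map (algebraMap Q D) := by
      rw [Ideal.map_map]; exact hyx j
    rw [IsLocalization.mem_map_algebraMap_iff (Submonoid.powers τ) D] at h1
    obtain ⟨⟨⟨b, hb⟩, ⟨_, e, rfl⟩⟩, hbe⟩ := h1
    rw [Ideal.mem_map_iff_of_surjective _ Ideal.Quotient.mk_surjective] at hb
    obtain ⟨a, ha, rfl⟩ := hb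
    refine ⟨e, a, ha, ?_⟩
    change _ * algebraMap Q D (τ ^ e) = _ at hbe
    rw [map_pow] at hbe
    exact hbe
  choose e a ha hea using hmem
  let E : ℕ := ∑ j, e j
  have hE : ∀ j, e j ≤ E := fun j => Finset.single_le_sum (fun _ _ => Nat.zero_le _) (Finset.mem_univ j)
  let b : ι → P := fun j => C T ^ (E - e j) * a j
  have hb : ∀ j, b j ∈ F := fun j => Ideal.mul_mem_left _ _ (ha j)
  have hbE : ∀ j, (y j - g (X j)) * g (C T) ^ E = g (b j) := by
    intro j
    simp only [b]
    rw [map_mul, map_pow, ← hea j]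
    have : g (C T) ^ E = g (C T) ^ (E - e j) * g (C T) ^ e j := by
      rw [← pow_add]; congr 1; have := hE j; omega
    rw [this]; ring
  -- Taylor expansion
  have htay : ∀ i, g (C T ^ E * f i + ∑ j, pderiv j (f i) * b j) = 0 := by
    intro i
    let _ : Algebra R D := φ.toAlgebra
    have h1 := (taylor_ideal (f i) (fun j => g (X j)) (fun j => y j - g (X j)) I hyx).2
    rw [hI2, Ideal.mem_bot] at h1
    have haev : ∀ (z : ι → D) (p : P), aeval z p = eval₂ φ z p := fun z p => by
      rw [aeval_def]; rfl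
    have h2 : (fun j => g (X j) + (y j - g (X j))) = y := by
      funext j; ring
    rw [h2, haev, haev, hy i, hg, zero_sub] at h1
    have h3 : ∀ j, aeval (fun j => g (X j)) (pderiv j (f i)) = g (pderiv j (f i)) := fun j => by
      rw [haev, hg]
    simp only [h3] at h1
    have h4 : g (f i) = - ∑ j, g (pderiv j (f i)) * (y j - g (X j)) := by
      linear_combination -h1
    rw [map_add, map_mul, map_pow, h4, map_sum]
    have h5 : ∀ j, g (pderiv j (f i) * b j) = g (pderiv j (f i)) * (y j - g (X j)) * g (C T) ^ E := by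
      intro j
      rw [map_mul, ← hbE j]; ring
    rw [Finset.sum_congr rfl fun j _ => h5 j, ← Finset.sum_mul]
    ring
  have hker : ∀ i, ∃ m : ℕ, C T ^ m * (C T ^ E * f i + ∑ j, pderiv j (f i) * b j) ∈ F ^ 2 := by
    intro i
    have h1 := htay i
    change algebraMap Q D (Ideal.Quotient.mk (F ^ 2) _) = 0 at h1
    rw [IsLocalization.map_eq_zero_iff (Submonoid.powers τ) D] at h1
    obtain ⟨⟨_, m, rfl⟩, hm⟩ := h1
    refine ⟨m, ?_⟩
    rw [← Ideal.Quotient.eq_zero_iff_mem, map_mul, map_pow]
    exact hm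
  choose m hm using hker
  let M : ℕ := ∑ i, m i
  have hM : ∀ i, m i ≤ M := fun i => Finset.single_le_sum (fun _ _ => Nat.zero_le _) (Finset.mem_univ i)
  have hM' : ∀ i, C T ^ M * (C T ^ E * f i + ∑ j, pderiv j (f i) * b j) ∈ F ^ 2 := by
    intro i
    have : (C T : P) ^ M = C T ^ (M - m i) * C T ^ m i := by
      rw [← pow_add]; congr 1; have := hM i; omega
    rw [this, mul_assoc]
    exact Ideal.mul_mem_left _ _ (hm i)
  have hc : ∀ j, ∃ c : κ → P, ∑ l, c l * f l = b j := by
    intro j
    have := hb j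
    rw [Ideal.mem_span_range_iff_exists_fun] at this
    exact this
  choose c hc using hc
  let S : Matrix ι κ P := Matrix.of fun j l => - (C T ^ M * c j l)
  refine ⟨M + E, S, fun i => ?_⟩
  convert hM' i using 1
  have h1 : ∑ l, (jacob f * S) i l * f l = - (C T ^ M * ∑ j, pderiv j (f i) * b j) := by
    simp only [Matrix.mul_apply, jacob, Matrix.of_apply, S, Finset.sum_mul, ← hc, Finset.mul_sum,
      ← Finset.sum_neg_distrib]
    rw [Finset.sum_comm]
    refine Finset.sum_congr rfl fun j _ => Finset.sum_congr rfl fun l _ => ?_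
    ring
  rw [h1, C_pow, pow_add]
  ring

/-- **Certificate from formal smoothness** of `(R[X]/(f))[1/T]` over `R`. -/
theorem exists_cert_of_formallySmooth {R : Type u} [CommRing R] {ι κ : Type} [Fintype ι] [Fintype κ]
    [DecidableEq ι] (T : R) (f : κ → MvPolynomial ι R) (ET : Type v) [CommRing ET] [Algebra R ET]
    [Algebra (MvPolynomial ι R ⧸ Ideal.span (Set.range f)) ET]
    [IsScalarTower R (MvPolynomial ι R ⧸ Ideal.span (Set.range f)) ET]
    [IsLocalization.Away (algebraMap R (MvPolynomial ι R ⧸ Ideal.span (Set.range f)) T) ET]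
    [Algebra.FormallySmooth R ET] :
    ∃ (k : ℕ) (S : Matrix ι κ (MvPolynomial ι R)), Cert T f k S := by
  refine exists_cert_of_lift T f ?_
  intro D _ φ hT I hI x hx
  let _ : Algebra R D := φ.toAlgebra
  have haev : ∀ (z : ι → D) (p : MvPolynomial ι R), aeval z p = eval₂ φ z p := fun z p => by
    rw [aeval_def]; rfl
  let σ₀ : MvPolynomial ι R →ₐ[R] D ⧸ I := (Ideal.Quotient.mkₐ R I).comp (aeval x)
  have hσ₀ : ∀ p ∈ Ideal.span (Set.range f), σ₀ p = 0 := by
    have : Ideal.span (Set.range f) ≤ RingHom.ker σ₀ := by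
      rw [Ideal.span_le]
      rintro _ ⟨i, rfl⟩
      rw [SetLike.mem_coe, RingHom.mem_ker]
      change Ideal.Quotient.mk I (aeval x (f i)) = 0
      rw [haev]
      exact Ideal.Quotient.eq_zero_iff_mem.2 (hx i)
    exact fun p hp => this hp
  let σ₁ : (MvPolynomial ι R ⧸ Ideal.span (Set.range f)) →ₐ[R] D ⧸ I := Ideal.Quotient.liftₐ _ σ₀ hσ₀
  have hunit : ∀ y : Submonoid.powers (algebraMap R (MvPolynomial ι R ⧸ Ideal.span (Set.range f)) T), IsUnit (σ₁ y) := by
    rintro ⟨_, n, rfl⟩
    change IsUnit (σ₁ (algebraMap R (MvPolynomial ι R ⧸ Ideal.span (Set.range f)) T ^ n))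
    rw [map_pow, AlgHom.commutes]
    exact (hT.map (Ideal.Quotient.mk I)).pow n
  let σ : ET →ₐ[R] D ⧸ I := IsLocalization.liftAlgHom (M := Submonoid.powers (algebraMap R (MvPolynomial ι R ⧸ Ideal.span (Set.range f)) T))
    (f := σ₁) hunit
  obtain ⟨τ, hτ⟩ := Algebra.FormallySmooth.exists_lift (A := ET) (R := R) I ⟨2, hI⟩ σ
  let q : MvPolynomial ι R →ₐ[R] ET := (IsScalarTower.toAlgHom R (MvPolynomial ι R ⧸ Ideal.span (Set.range f)) ET).comp (Ideal.Quotient.mkₐ R (Ideal.span (Set.range f)))
  have hcomp : τ.comp q = aeval (fun j => τ (q (X j))) := by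
    ext j; simp
  refine ⟨fun j => τ (q (X j)), fun i => ?_, fun j => ?_⟩
  · rw [← haev, ← hcomp, AlgHom.comp_apply]
    have : q (f i) = 0 := by
      change algebraMap (MvPolynomial ι R ⧸ Ideal.span (Set.range f)) ET (Ideal.Quotient.mk (Ideal.span (Set.range f)) (f i)) = 0
      rw [Ideal.Quotient.eq_zero_iff_mem.2 (Ideal.subset_span (Set.mem_range_self i)), map_zero]
    rw [this, map_zero]
  · rw [← Ideal.Quotient.eq_zero_iff_mem, map_sub, sub_eq_zero]
    have h4 := DFunLike.congr_fun hτ (q (X j))
    refine h4.trans ?_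
    change σ (algebraMap (MvPolynomial ι R ⧸ Ideal.span (Set.range f)) ET (Ideal.Quotient.mk (Ideal.span (Set.range f)) (X j))) = _
    rw [IsLocalization.liftAlgHom_apply, IsLocalization.lift_eq]
    change σ₁ (Ideal.Quotient.mk (Ideal.span (Set.range f)) (X j)) = _
    change σ₀ (X j) = _
    change Ideal.Quotient.mk I (aeval x (X j)) = _
    rw [aeval_X]

end K589.ElkikCert
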