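import Mathlib.RingTheory.AdicCompletion.Completeness
import Mathlib.RingTheory.AdicCompletion.LocalRing
import Mathlib.RingTheory.Henselian

/-!
# Auxiliary facts on the `I`-adic completion of a ring for a finitely generated ideal `I`
-/

set_option autoImplicit false
universe u v

namespace K589.AdicAux

variable {B : Type u} [CommRing B] {I : Ideal B}

local notation "Bh" => AdicCompletion I B

theorem mem_map_pow_iff (hI : I.FG) (n : ℕ) (x : AdicCompletion I B) :
    x ∈ (I.map (algebraMap B (AdicCompletion I B))) ^ n ↔ AdicCompletion.evalₐ I n x = 0 := by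
  have h1 : AdicCompletion.evalₐ I n x = 0 ↔ AdicCompletion.eval I B n x = 0 := by
    have h : (I ^ n • ⊤ : Ideal B) ≤ I ^ n := by simp
    have h' : I ^ n ≤ (I ^ n • ⊤ : Ideal B) := by simp
    constructor
    · intro hx
      rw [← AdicCompletion.factor_evalₐ_eq_eval I x h', hx, map_zero]
    · intro hx
      rw [← AdicCompletion.factor_eval_eq_evalₐ I x h, hx, map_zero]
  rw [h1, ← LinearMap.mem_ker, ← AdicCompletion.pow_smul_top_eq_ker_eval hI, Ideal.smul_top_eq_map,
    Submodule.restrictScalars_mem, Ideal.map_pow]

theorem algebraMap_mem_iff (hI : I.FG) (n : ℕ) (b : B) :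
    algebraMap B (AdicCompletion I B) b ∈ (I.map (algebraMap B (AdicCompletion I B))) ^ n ↔ b ∈ I ^ n := by
  rw [mem_map_pow_iff hI, AlgHom.commutes]
  exact Ideal.Quotient.eq_zero_iff_mem

/-- Elements of the completion are approximated by elements of the ring. -/
theorem exists_approx (hI : I.FG) (n : ℕ) (x : AdicCompletion I B) :
    ∃ b : B, algebraMap B (AdicCompletion I B) b - x ∈ (I.map (algebraMap B (AdicCompletion I B))) ^ n := by
  obtain ⟨b, hb⟩ := Ideal.Quotient.mk_surjective (AdicCompletion.evalₐ I n x)
  refine ⟨b, ?_⟩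
  rw [mem_map_pow_iff hI, map_sub, AlgHom.commutes, ← hb]
  exact sub_self _

theorem henselianRing (hI : I.FG) :
    HenselianRing (AdicCompletion I B) (I.map (algebraMap B (AdicCompletion I B))) := by
  have := AdicCompletion.isAdicComplete_self I hI
  exact IsAdicComplete.henselianRing _ _

end K589.AdicAux
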