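import Mathlib.RingTheory.Spectrum.Prime.FreeLocus
import Mathlib.Algebra.Module.FinitePresentation
import Mathlib.RingTheory.LocalProperties.Projective

/-!
# Local freeness of a cokernel and generalized inverses

For a presentation `F₁ →φ F₀ →q M → 0`, the module `M` is locally free on `D(h)` exactly when there is
`ψ : F₀ → F₁` with `φ ψ φ = h ^ N φ`.
-/

set_option autoImplicit false
universe u v

namespace K589.RegModule

variable {A : Type*} [CommRing A] {F₁ F₀ M : Type*} [AddCommGroup F₁] [Module A F₁]
  [AddCommGroup F₀] [Module A F₀] [AddCommGroup M] [Module A M]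

theorem exists_psi [Module.Projective A F₀] (φ : F₁ →ₗ[A] F₀) (q : F₀ →ₗ[A] M)
    (hq : Function.Surjective q) (hex : Function.Exact φ q) (h : A) [Module.FinitePresentation A M]
    (hM : (PrimeSpectrum.basicOpen h : Set (PrimeSpectrum A)) ⊆ Module.freeLocus A M) :
    ∃ (N : ℕ) (ψ : F₀ →ₗ[A] F₁), φ ∘ₗ ψ ∘ₗ φ = h ^ N • φ := by
  rw [Module.basicOpen_subset_freeLocus_iff] at hM
  let S := Submonoid.powers h
  let gM := LocalizedModule.mkLinearMap S M
  let gF := LocalizedModule.mkLinearMap S F₀
  let qh : LocalizedModule S F₀ →ₗ[Localization S] LocalizedModule S M :=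
    IsLocalizedModule.mapExtendScalars S gF gM (Localization S) q
  have hqh : Function.Surjective qh := by
    have := IsLocalizedModule.map_surjective S gF gM q hq
    exact this
  obtain ⟨σ, hσ⟩ := Module.projective_lifting_property qh LinearMap.id hqh
  obtain ⟨s, w, hs⟩ := Module.FinitePresentation.exists_lift_of_isLocalizedModule S gF
    ((σ.restrictScalars A) ∘ₗ gM)
  have h1 : gM ∘ₗ (q ∘ₗ s) = gM ∘ₗ ((w : A) • LinearMap.id) := by
    have e1 : gM ∘ₗ q = (qh.restrictScalars A) ∘ₗ gF := by
      ext x
      change gM (q x) = IsLocalizedModule.map S gF gM q (gF x)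
      rw [IsLocalizedModule.map_apply]
    rw [← LinearMap.comp_assoc, e1, LinearMap.comp_assoc, hs]
    ext x
    have e2 := LinearMap.congr_fun hσ (gM x)
    simp only [LinearMap.comp_apply, LinearMap.id_apply] at e2
    change qh (((w : S) • (σ.restrictScalars A ∘ₗ gM)) x) = gM ((w : A) • x)
    calc qh ((w : A) • σ (gM x)) = (w : A) • qh (σ (gM x)) := (qh.restrictScalars A).map_smul (w : A) _
      _ = (w : A) • gM x := by rw [e2]
      _ = gM ((w : A) • x) := (map_smul gM _ _).symm
  obtain ⟨w', hw'⟩ := Module.Finite.exists_smul_of_comp_eq_of_isLocalizedModule S gM _ _ h1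
  obtain ⟨n, hn⟩ := w.2
  obtain ⟨n', hn'⟩ := w'.2
  have h2 : q ∘ₗ ((w' : A) • s) = h ^ (n' + n) • LinearMap.id := by
    rw [LinearMap.comp_smul]
    have : (w' : A) • (q ∘ₗ s) = (w' : A) • ((w : A) • LinearMap.id) := hw'
    rw [this, ← hn, ← hn', smul_smul, pow_add]
  let e : F₀ →ₗ[A] F₀ := h ^ (n' + n) • LinearMap.id - ((w' : A) • s) ∘ₗ q
  have he : ∀ x, e x ∈ LinearMap.range φ := by
    intro x
    rw [LinearMap.mem_range, ← Set.mem_range, ← hex (e x)]
    have e3 := LinearMap.congr_fun h2 (q x)
    simp only [LinearMap.comp_apply, LinearMap.smul_apply, LinearMap.id_apply] at e3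
    simp only [e, LinearMap.sub_apply, LinearMap.smul_apply, LinearMap.id_apply, LinearMap.comp_apply,
      map_sub, map_smul]
    rw [map_smul] at e3
    rw [e3, sub_self]
  obtain ⟨ψ, hψ⟩ := Module.projective_lifting_property φ.rangeRestrict
    (e.codRestrict (LinearMap.range φ) he) φ.surjective_rangeRestrict
  refine ⟨n' + n, ψ, ?_⟩
  ext x
  have e4 : ∀ y, φ (ψ y) = e y := fun y => congrArg Subtype.val (LinearMap.congr_fun hψ y)
  rw [LinearMap.comp_apply, LinearMap.comp_apply, e4]
  simp only [e, LinearMap.sub_apply, LinearMap.smul_apply, LinearMap.id_apply, LinearMap.comp_apply]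
  rw [hex.apply_apply_eq_zero, map_zero, smul_zero, sub_zero]

theorem subset_freeLocus [Module.Projective A F₀] (φ : F₁ →ₗ[A] F₀) (q : F₀ →ₗ[A] M)
    (hq : Function.Surjective q) (hex : Function.Exact φ q) (h : A) [Module.FinitePresentation A M]
    (N : ℕ) (ψ : F₀ →ₗ[A] F₁) (hψ : φ ∘ₗ ψ ∘ₗ φ = h ^ N • φ) :
    (PrimeSpectrum.basicOpen h : Set (PrimeSpectrum A)) ⊆ Module.freeLocus A M := by
  rw [Module.basicOpen_subset_freeLocus_iff]
  let S := Submonoid.powers h
  let gM := LocalizedModule.mkLinearMap S M
  let gF := LocalizedModule.mkLinearMap S F₀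
  let e : F₀ →ₗ[A] F₀ := h ^ N • LinearMap.id - φ ∘ₗ ψ
  have hker : LinearMap.ker q ≤ LinearMap.ker e := by
    intro x hx
    obtain ⟨y, rfl⟩ := (hex x).1 hx
    rw [LinearMap.mem_ker]
    have := LinearMap.congr_fun hψ y
    simp only [LinearMap.comp_apply, LinearMap.smul_apply] at this
    simp only [e, LinearMap.sub_apply, LinearMap.smul_apply, LinearMap.id_apply, LinearMap.comp_apply]
    rw [this, sub_self]
  let s : M →ₗ[A] F₀ := ((LinearMap.ker q).liftQ e hker) ∘ₗ (q.quotKerEquivOfSurjective hq).symm.toLinearMap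
  have hs : ∀ x, s (q x) = e x := by
    intro x
    have : (q.quotKerEquivOfSurjective hq).symm (q x) = (LinearMap.ker q).mkQ x := by
      rw [LinearEquiv.symm_apply_eq]
      rfl
    change (LinearMap.ker q).liftQ e hker ((q.quotKerEquivOfSurjective hq).symm (q x)) = _
    rw [this]
    exact (LinearMap.ker q).liftQ_apply e x
  have hqs : q ∘ₗ s = h ^ N • LinearMap.id := by
    ext m
    obtain ⟨x, rfl⟩ := hq m
    simp only [LinearMap.comp_apply, LinearMap.smul_apply, LinearMap.id_apply, hs, e, LinearMap.sub_apply,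
      map_sub, map_smul]
    rw [hex.apply_apply_eq_zero, sub_zero]
  let qh : LocalizedModule S F₀ →ₗ[Localization S] LocalizedModule S M :=
    IsLocalizedModule.mapExtendScalars S gF gM (Localization S) q
  let sh : LocalizedModule S M →ₗ[Localization S] LocalizedModule S F₀ :=
    IsLocalizedModule.mapExtendScalars S gM gF (Localization S) s
  have hunit : IsUnit (algebraMap A (Localization S) (h ^ N)) :=
    IsLocalization.map_units (Localization S) (⟨h ^ N, N, rfl⟩ : S)
  obtain ⟨w, hw⟩ := hunit
  have hcomp : ∀ x, qh (sh x) = (w : Localization S) • x := by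
    intro x
    have h1 : IsLocalizedModule.map S gF gM q ∘ₗ IsLocalizedModule.map S gM gF s =
        IsLocalizedModule.map S gM gM (q ∘ₗ s) := by
      exact (IsLocalizedModule.map_comp' S gM gF gM s q).symm
    have h2 := LinearMap.congr_fun h1 x
    rw [hqs] at h2
    change IsLocalizedModule.map S gF gM q (IsLocalizedModule.map S gM gF s x) = _
    refine h2.trans ?_
    rw [hw, algebraMap_smul, map_smul, LinearMap.smul_apply, IsLocalizedModule.map_id,
      LinearMap.id_apply]
  have : Module.Projective (Localization S) (LocalizedModule S F₀) :=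
    Module.projective_of_isLocalizedModule S gF
  refine Module.Projective.of_split (P := LocalizedModule S M) (M := LocalizedModule S F₀) sh
    ((w⁻¹ : (Localization S)ˣ) • qh) ?_
  ext x
  change (w⁻¹ : (Localization S)ˣ) • qh (sh x) = x
  rw [hcomp, Units.smul_def, smul_smul, Units.inv_mul, one_smul]

end K589.RegModule
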