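import Groth.Agent.ParaF.K589.RegMat
import Groth.Agent.ParaF.K589.RegModule
import Groth.Agent.ParaF.K589.AdicAux
import Mathlib.LinearAlgebra.TensorProduct.Pi
import Mathlib.LinearAlgebra.Matrix.NonsingularInverse

/-!
# Elkik's theorem on modules

Modules over the completion of a henselian pair which are locally free outside the closed subset come
from modules over the henselian ring.
-/

set_option autoImplicit false
universe u v

open TensorProduct

namespace K589.ElkikModule

open K589.RegMat K589.ElkikNewton K589.ElkikGeneral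

theorem exists_list_of_fg {A : Type*} [CommRing A] (I : Ideal A) (h : I.FG) :
    ∃ l : List A, Ideal.ofList l = I := by
  obtain ⟨s, hs⟩ := h
  refine ⟨s.toList, ?_⟩
  rw [← hs]
  change Ideal.span {r | r ∈ s.toList} = Ideal.span (s : Set A)
  congr 1
  ext x
  exact Finset.mem_toList

theorem exists_presentation (A : Type u) [CommRing A] [IsNoetherianRing A] (M : Type v) [AddCommGroup M]
    [Module A M] [Module.Finite A M] :
    ∃ (a b : ℕ) (φ : (Fin a → A) →ₗ[A] (Fin b → A)) (q : (Fin b → A) →ₗ[A] M),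
      Function.Surjective q ∧ Function.Exact φ q := by
  obtain ⟨b, q, hq⟩ := Module.Finite.exists_fin' A M
  obtain ⟨a, φ, hφ⟩ := Module.Finite.exists_fin' A (LinearMap.ker q)
  refine ⟨a, b, (LinearMap.ker q).subtype ∘ₗ φ, q, hq, ?_⟩
  intro x
  constructor
  · intro hx
    obtain ⟨y, hy⟩ := hφ ⟨x, hx⟩
    exact ⟨y, by rw [LinearMap.comp_apply, hy]; rfl⟩
  · rintro ⟨y, rfl⟩
    exact (φ y).2

/-- Base change of the cokernel of a matrix. -/
theorem exists_coker_baseChange {B C : Type u} [CommRing B] [CommRing C] [Algebra B C] {a b : ℕ}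
    (Φ : Matrix (Fin b) (Fin a) B) :
    ∃ q : (Fin b → C) →ₗ[C] C ⊗[B] ((Fin b → B) ⧸ LinearMap.range Φ.mulVecLin),
      Function.Surjective q ∧ Function.Exact (Φ.map (algebraMap B C)).mulVecLin q := by
  let Q := (LinearMap.range Φ.mulVecLin).mkQ
  let e₀ := TensorProduct.piScalarRight B C C (Fin b)
  let e₁ := TensorProduct.piScalarRight B C C (Fin a)
  have hex : Function.Exact (Φ.mulVecLin.baseChange C) (Q.baseChange C) :=
    lTensor_exact C (f := Φ.mulVecLin) (g := Q) (by
      rw [LinearMap.exact_iff, Submodule.ker_mkQ]) (Submodule.mkQ_surjective _)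
  have hsurj : Function.Surjective (Q.baseChange C) :=
    LinearMap.lTensor_surjective C (Submodule.mkQ_surjective _)
  have hcomm : ∀ x, e₀ (Φ.mulVecLin.baseChange C x) = (Φ.map (algebraMap B C)).mulVecLin (e₁ x) := by
    intro x
    induction x with
    | zero => simp
    | add x y hx hy => simp only [map_add, hx, hy]
    | tmul s v =>
      ext i
      simp only [e₀, e₁, LinearMap.baseChange_tmul, piScalarRight_apply, piScalarRightHom_tmul,
        Matrix.mulVecLin_apply, Matrix.mulVec, dotProduct, Matrix.map_apply, Finset.sum_smul]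
      refine Finset.sum_congr rfl fun j _ => ?_
      rw [Algebra.smul_def, Algebra.smul_def, map_mul]
      ring
  refine ⟨Q.baseChange C ∘ₗ e₀.symm.toLinearMap, ?_, ?_⟩
  · exact hsurj.comp e₀.symm.surjective
  · intro x
    rw [LinearMap.comp_apply]
    change (Q.baseChange C) (e₀.symm x) = 0 ↔ _
    rw [hex (e₀.symm x)]
    constructor
    · rintro ⟨y, hy⟩
      refine ⟨e₁ y, ?_⟩
      rw [← hcomm, hy, LinearEquiv.apply_symm_apply]
    · rintro ⟨y, rfl⟩
      refine ⟨e₁.symm y, ?_⟩
      rw [LinearEquiv.eq_symm_apply, hcomm, LinearEquiv.apply_symm_apply]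

/-- Two surjections from the same module with the same kernel have isomorphic targets. -/
theorem equiv_of_ker_eq {A : Type*} [CommRing A] {F M N : Type*} [AddCommGroup F] [Module A F]
    [AddCommGroup M] [Module A M] [AddCommGroup N] [Module A N] (q : F →ₗ[A] M) (q' : F →ₗ[A] N)
    (hq : Function.Surjective q) (hq' : Function.Surjective q')
    (h : LinearMap.ker q = LinearMap.ker q') : Nonempty (M ≃ₗ[A] N) :=
  ⟨(q.quotKerEquivOfSurjective hq).symm ≪≫ₗ Submodule.quotEquivOfEq _ _ h ≪≫ₗ
    q'.quotKerEquivOfSurjective hq'⟩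

/-- a matrix congruent to `1` modulo an ideal in the Jacobson radical is invertible. -/
theorem isUnit_of_sub_one_mem {A : Type*} [CommRing A] {n : Type*} [Fintype n] [DecidableEq n]
    (I : Ideal A) (hI : I ≤ (⊥ : Ideal A).jacobson) (g : Matrix n n A) (hg : ∀ i j, (g - 1) i j ∈ I) :
    IsUnit g := by
  rw [Matrix.isUnit_iff_isUnit_det]
  have h1 : Ideal.Quotient.mk I g.det = 1 := by
    rw [RingHom.map_det]
    have : (Ideal.Quotient.mk I).mapMatrix g = 1 := by
      ext i j
      have := Ideal.Quotient.eq_zero_iff_mem.2 (hg i j)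
      rw [Matrix.sub_apply, map_sub, sub_eq_zero] at this
      rw [RingHom.mapMatrix_apply, Matrix.map_apply, this, Matrix.one_apply, Matrix.one_apply]
      split_ifs <;> simp
    rw [this, Matrix.det_one]
  have h2 : g.det - 1 ∈ I := by
    rw [← Ideal.Quotient.eq_zero_iff_mem, map_sub, h1, map_one, sub_self]
  have h3 := Ideal.mem_jacobson_bot.1 (hI h2) 1
  simpa using h3

/-- two matrices which are equivalent through invertible matrices have isomorphic cokernels. -/
theorem range_map_eq {A : Type*} [CommRing A] {m n : Type*} [Fintype m] [Fintype n] [DecidableEq m]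
    [DecidableEq n] (Φ Φ' : Matrix m n A) (g : Matrix m m A) (k : Matrix n n A) (hk : IsUnit k)
    (h : g * Φ = Φ' * k) :
    (LinearMap.range Φ.mulVecLin).map g.mulVecLin = LinearMap.range Φ'.mulVecLin := by
  rw [← LinearMap.range_comp, ← Matrix.mulVecLin_mul, h, Matrix.mulVecLin_mul]
  refine LinearMap.range_comp_of_range_eq_top _ ?_
  rw [LinearMap.range_eq_top]
  obtain ⟨u, rfl⟩ := hk
  intro x
  refine ⟨(↑u⁻¹ : Matrix n n A).mulVec x, ?_⟩
  rw [Matrix.mulVecLin_apply, Matrix.mulVec_mulVec, Units.mul_inv, Matrix.one_mulVec]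

/-- **Uniform rigidity**: over a henselian pair (complete, say) two matrices with certificates which are
sufficiently close are equivalent. -/
theorem exists_equivalence {B : Type u} {inst : CommRing B} {ts : List B} (hg : GoodSeq B inst ts)
    (hh : HenselianRing B (Ideal.ofList ts)) (N a b : ℕ) :
    ∃ N₂ : ℕ, ∀ (Φ Φ' : Matrix (Fin b) (Fin a) B),
      (∀ t ∈ ts, ∃ Ψ : Matrix (Fin a) (Fin b) B, Φ * Ψ * Φ = t ^ N • Φ) →
      (∀ t ∈ ts, ∃ Ψ : Matrix (Fin a) (Fin b) B, Φ' * Ψ * Φ' = t ^ N • Φ') →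
      (∀ i j, Φ i j - Φ' i j ∈ Ideal.ofList ts ^ N₂) →
      ∃ (g : Matrix (Fin b) (Fin b) B) (k : Matrix (Fin a) (Fin a) B),
        IsUnit g ∧ IsUnit k ∧ g * Φ = Φ' * k := by
  obtain ⟨N₂, hN₂⟩ := ElkikUniform.exists_solution_uniform hg hh (N + N) 1
  refine ⟨N₂, fun Φ Φ' h h' hd => ?_⟩
  obtain ⟨y, hy, hy1⟩ := hN₂ (Idx2 (Fin b) (Fin a)) (Fin b × Fin a) (sys2 Φ Φ') (fun t ht => by
    obtain ⟨Ψ, hΨ⟩ := h t ht
    obtain ⟨Ψ', hΨ'⟩ := h' t ht
    exact cert_sys2 Φ Φ' Ψ Ψ' t N hΨ hΨ')
    (Sum.elim (fun p => (1 : Matrix (Fin b) (Fin b) B) p.1 p.2)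
      (fun p => (1 : Matrix (Fin a) (Fin a) B) p.1 p.2)) (fun q => by
      rw [eval_sys2]
      have e1 : gm (Sum.elim (fun p => (1 : Matrix (Fin b) (Fin b) B) p.1 p.2)
        (fun p => (1 : Matrix (Fin a) (Fin a) B) p.1 p.2)) = 1 := rfl
      have e2 : km (Sum.elim (fun p => (1 : Matrix (Fin b) (Fin b) B) p.1 p.2)
        (fun p => (1 : Matrix (Fin a) (Fin a) B) p.1 p.2)) = 1 := rfl
      rw [e1, e2, Matrix.one_mul, Matrix.mul_one, Matrix.sub_apply]
      exact hd _ _)
  rw [pow_one] at hy1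
  refine ⟨gm y, km y, ?_, ?_, ?_⟩
  · exact isUnit_of_sub_one_mem _ hh.jac _ fun i j => hy1 (Sum.inl (i, j))
  · exact isUnit_of_sub_one_mem _ hh.jac _ fun i j => hy1 (Sum.inr (i, j))
  · rw [← sub_eq_zero]
    ext i j
    have := hy (i, j)
    rwa [eval_sys2] at this

theorem eval₂_sub_mem {R A : Type*} [CommRing R] [CommRing A] (φ : R →+* A) {ι : Type*} (𝔞 : Ideal A)
    (x x' : ι → A) (h : ∀ j, x j - x' j ∈ 𝔞) (p : MvPolynomial ι R) :
    MvPolynomial.eval₂ φ x p - MvPolynomial.eval₂ φ x' p ∈ 𝔞 := by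
  rw [← Ideal.Quotient.eq_zero_iff_mem, map_sub, sub_eq_zero, MvPolynomial.eval₂_comp_left,
    MvPolynomial.eval₂_comp_left]
  congr 1
  funext j
  have := Ideal.Quotient.eq_zero_iff_mem.2 (h j)
  rw [map_sub, sub_eq_zero] at this
  exact this

/-- Elkik's theorem on modules, with the closed subset cut out by more elements. -/
theorem exists_module
    (B₀ B : Type u) [CommRing B₀] [CommRing B] [IsNoetherianRing B₀] [Algebra B₀ B] [Module.Flat B₀ B]
    (I₀ : Ideal B₀) (I : Ideal B) (hI : I = Ideal.map (algebraMap B₀ B) I₀) [hhens : HenselianRing B I]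
    [IsNoetherianRing (AdicCompletion I B)]
    (J : Ideal B) (hJ : I ≤ J)
    (Mbar : Type u) [AddCommGroup Mbar] [Module (AdicCompletion I B) Mbar] [Module.Finite (AdicCompletion I B) Mbar]
    (hMbar : ∀ (p : Ideal (AdicCompletion I B)) [p.IsPrime],
      ¬ Ideal.map (algebraMap B (AdicCompletion I B)) J ≤ p →
        Module.Free (Localization.AtPrime p)
          (LocalizedModule p.primeCompl Mbar)) :
    ∃ (M : Type u) (_ : AddCommGroup M) (_ : Module B M), Module.Finite B M ∧ Module.FinitePresentation B M ∧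
      (∀ (q : Ideal B) [q.IsPrime], ¬ J ≤ q →
        Module.Free (Localization.AtPrime q) (LocalizedModule q.primeCompl M)) ∧
      Nonempty (AdicCompletion I B ⊗[B] M ≃ₗ[AdicCompletion I B] Mbar) := by
  classical
  obtain ⟨ts₀, hts₀⟩ := exists_list_of_fg I₀ (IsNoetherian.noetherian I₀)
  have hts : Ideal.ofList (ts₀.map (algebraMap B₀ B)) = I := by
    rw [← Ideal.map_ofList, hts₀, hI]
  have hIfg : I.FG := by
    rw [hI]; exact Ideal.FG.map (IsNoetherian.noetherian I₀) _
  -- generators of `J` modulo `I`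
  have hnoeth : IsNoetherianRing (B ⧸ I) :=
    isNoetherianRing_of_surjective _ _ (AdicCompletion.evalOneₐ I).toRingHom
      (AdicCompletion.evalOneₐ_surjective I)
  obtain ⟨gs, hgs⟩ : ∃ gs : List B, Ideal.ofList gs ⊔ I = J := by
    obtain ⟨l, hl⟩ := exists_list_of_fg (J.map (Ideal.Quotient.mk I)) (IsNoetherian.noetherian _)
    obtain ⟨gs, rfl⟩ := List.map_surjective_iff.2 Ideal.Quotient.mk_surjective l
    refine ⟨gs, ?_⟩
    rw [← Ideal.map_ofList] at hl
    have h1 := congrArg (Ideal.comap (Ideal.Quotient.mk I)) hl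
    rw [Ideal.comap_map_of_surjective _ Ideal.Quotient.mk_surjective,
      Ideal.comap_map_of_surjective _ Ideal.Quotient.mk_surjective, ← RingHom.ker_eq_comap_bot,
      Ideal.mk_ker, sup_eq_left.2 hJ] at h1
    exact h1
  let Bh := AdicCompletion I B
  let α : B →+* Bh := algebraMap B (AdicCompletion I B)
  let hs : List B := ts₀.map (algebraMap B₀ B) ++ gs
  let T : Fin hs.length → B := fun i => hs.get i
  have hTmem : ∀ t ∈ hs, ∃ i, T i = t := fun t ht => List.get_of_mem ht
  have hTJ : ∀ i, T i ∈ J := by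
    intro i
    have h1 : T i ∈ hs := List.get_mem hs i
    rw [List.mem_append] at h1
    rcases h1 with h1 | h1
    · refine hJ ?_
      rw [← hts]
      exact Ideal.subset_span h1
    · rw [← hgs]
      exact Ideal.mem_sup_left (Ideal.subset_span h1)
  -- presentation
  obtain ⟨a, b, φ, q, hq, hex⟩ := exists_presentation (AdicCompletion I B) Mbar
  have : Module.FinitePresentation (AdicCompletion I B) Mbar := Module.finitePresentation_of_finite _ _
  let Φb : Matrix (Fin b) (Fin a) Bh := LinearMap.toMatrix' φ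
  have hφ : Φb.mulVecLin = φ := by
    change Matrix.toLin' (LinearMap.toMatrix' φ) = φ
    exact Matrix.toLin'_toMatrix' φ
  have hcert : ∀ i, ∃ (N : ℕ) (Ψ : Matrix (Fin a) (Fin b) Bh), Φb * Ψ * Φb = (α (T i)) ^ N • Φb := by
    intro i
    obtain ⟨N, ψ, hψ⟩ := RegModule.exists_psi φ q hq hex (α (T i)) (fun p hp => by
      refine hMbar p.asIdeal fun hle => ?_
      exact hp (hle (Ideal.mem_map_of_mem _ (hTJ i))))
    refine ⟨N, LinearMap.toMatrix' ψ, ?_⟩
    have h1 := congrArg LinearMap.toMatrix' hψ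
    rw [LinearMap.toMatrix'_comp, LinearMap.toMatrix'_comp, map_smul] at h1
    rw [Matrix.mul_assoc]
    exact h1
  choose Nf Ψf hΨf using hcert
  let N : ℕ := ∑ i, Nf i
  have hNle : ∀ i, Nf i ≤ N := fun i => Finset.single_le_sum (fun _ _ => Nat.zero_le _) (Finset.mem_univ i)
  let Ψb : Fin hs.length → Matrix (Fin a) (Fin b) Bh := fun i => (α (T i)) ^ (N - Nf i) • Ψf i
  have hΨb : ∀ i, Φb * Ψb i * Φb = (α (T i)) ^ N • Φb := by
    intro i
    simp only [Ψb, Matrix.mul_smul, Matrix.smul_mul]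
    rw [hΨf i, smul_smul, ← pow_add]
    congr 2
    have := hNle i
    omega
  -- uniform rigidity over the completion
  let tsb : List Bh := (ts₀.map (algebraMap B₀ B)).map α
  have htsb : Ideal.ofList tsb = I.map α := by
    change Ideal.ofList ((ts₀.map (algebraMap B₀ B)).map α) = _
    rw [← Ideal.map_ofList, hts]
  have hgb : GoodSeq (AdicCompletion I B) (AdicCompletion.instCommRing I) tsb := by
    have := goodSeq_of_flat tsb.length (AdicCompletion I B) (AdicCompletion I B) tsb rfl
    rwa [Algebra.algebraMap_self, RingHom.coe_id, List.map_id] at this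
  have hhb : HenselianRing Bh (Ideal.ofList tsb) := by
    rw [htsb]; exact AdicAux.henselianRing hIfg
  obtain ⟨N₂, hN₂⟩ := exists_equivalence hgb hhb N a b
  -- approximation over `B`
  have hhB : HenselianRing B (Ideal.ofList (ts₀.map (algebraMap B₀ B))) := by
    rw [hts]; exact hhens
  obtain ⟨N₁, hN₁⟩ := exists_solution_of_flat (sys1 (m := Fin b) (n := Fin a) N T) B₀ B ts₀ hhB
    (ts₀.map (algebraMap B₀ B)) (fun t ht => by
      obtain ⟨i, rfl⟩ := hTmem t (List.mem_append_left _ ht)
      exact cert_sys1 N T i) N₂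
  let xb : Idx (Fin b) (Fin a) (Fin hs.length) → Bh := ofMat Φb Ψb
  choose x hx using fun j => AdicAux.exists_approx hIfg (max N₁ N₂) (xb j)
  obtain ⟨y, hy, hyx⟩ := hN₁ (RingHom.id B) (by simp) x (fun i => by
    rw [hts]
    refine Ideal.pow_le_pow_right (le_max_left N₁ N₂) ?_
    rw [← AdicAux.algebraMap_mem_iff hIfg]
    have h1 : MvPolynomial.eval₂ α xb (sys1 (m := Fin b) (n := Fin a) N T i) = 0 := by
      rw [eval₂_sys1]
      simp only [xb, phi_ofMat, psi_ofMat]
      rw [hΨb, sub_self, Matrix.zero_apply]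
    have h2 := eval₂_sub_mem α _ (fun j => α (x j)) xb hx (sys1 (m := Fin b) (n := Fin a) N T i)
    rw [h1, sub_zero] at h2
    have h3 : algebraMap B (AdicCompletion I B) (MvPolynomial.eval₂ (RingHom.id B) x
        (sys1 (m := Fin b) (n := Fin a) N T i)) =
        MvPolynomial.eval₂ α (fun j => α (x j)) (sys1 (m := Fin b) (n := Fin a) N T i) := by
      rw [MvPolynomial.eval₂_comp_left]
      rfl
    rw [h3]
    exact h2)
  rw [hts] at hyx
  -- the approximating matrix
  let Φ : Matrix (Fin b) (Fin a) B := phi y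
  have hΦ : ∀ i, Φ * psi y i * Φ = T i ^ N • Φ := by
    intro i
    rw [← sub_eq_zero]
    ext k l
    have := hy (i, k, l)
    rwa [eval₂_sys1] at this
  have hclose : ∀ j, α (y j) - xb j ∈ (I.map α) ^ N₂ := by
    intro j
    have h1 : α (y j - x j) ∈ (I.map α) ^ N₂ := (AdicAux.algebraMap_mem_iff hIfg N₂ _).2 (hyx j)
    have h2 : α (x j) - xb j ∈ (I.map α) ^ N₂ := Ideal.pow_le_pow_right (le_max_right N₁ N₂) (hx j)
    have h3 := add_mem h1 h2
    rwa [map_sub, sub_add_sub_cancel] at h3
  have hΦα : ∀ i, (Φ.map α) * (psi y i).map α * (Φ.map α) = (α (T i)) ^ N • (Φ.map α) := by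
    intro i
    rw [← Matrix.map_mul, ← Matrix.map_mul, hΦ i]
    ext k l
    simp
  have hmem_tsb : ∀ t ∈ tsb, ∃ i, α (T i) = t := by
    intro t ht
    obtain ⟨s, hs', rfl⟩ := List.mem_map.1 ht
    obtain ⟨i, rfl⟩ := hTmem s (List.mem_append_left _ hs')
    exact ⟨i, rfl⟩
  obtain ⟨g, k, hg, hk, hgk⟩ := hN₂ (Φ.map α) Φb
    (fun t ht => by
      obtain ⟨i, rfl⟩ := hmem_tsb t ht
      exact ⟨_, hΦα i⟩)
    (fun t ht => by
      obtain ⟨i, rfl⟩ := hmem_tsb t ht
      exact ⟨_, hΨb i⟩)
    (fun i j => by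
      rw [htsb]
      exact hclose (Sum.inl (i, j)))
  -- the module
  let M := (Fin b → B) ⧸ LinearMap.range Φ.mulVecLin
  have hMex : Function.Exact Φ.mulVecLin (LinearMap.range Φ.mulVecLin).mkQ := by
    rw [LinearMap.exact_iff, Submodule.ker_mkQ]
  have hMfp : Module.FinitePresentation B M :=
    Module.finitePresentation_of_surjective (LinearMap.range Φ.mulVecLin).mkQ
      (Submodule.mkQ_surjective _) (by
        rw [Submodule.ker_mkQ]
        exact Module.Finite.iff_fg.1 (Module.Finite.range Φ.mulVecLin))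
  refine ⟨M, inferInstance, inferInstance, inferInstance, hMfp, ?_, ?_⟩
  · intro p _ hp
    have : ∃ i, T i ∉ p := by
      by_contra hcon
      push Not at hcon
      apply hp
      rw [← hgs, ← hts]
      refine sup_le ?_ ?_
      · rw [Ideal.ofList, Ideal.span_le]
        intro t ht
        obtain ⟨i, rfl⟩ := hTmem t (List.mem_append_right _ ht)
        exact hcon i
      · rw [Ideal.ofList, Ideal.span_le]
        intro t ht
        obtain ⟨i, rfl⟩ := hTmem t (List.mem_append_left _ ht)
        exact hcon i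
    obtain ⟨i, hi⟩ := this
    have h1 := RegModule.subset_freeLocus Φ.mulVecLin (LinearMap.range Φ.mulVecLin).mkQ
      (Submodule.mkQ_surjective _) hMex (T i) N (psi y i).mulVecLin (by
        have h2 := congrArg Matrix.mulVecLin (hΦ i)
        rw [Matrix.mulVecLin_mul, Matrix.mulVecLin_mul] at h2
        rw [← LinearMap.comp_assoc, h2]
        ext v : 2
        simp)
    exact h1 (a := ⟨p, inferInstance⟩) hi
  · obtain ⟨q', hq', hex'⟩ := exists_coker_baseChange (C := AdicCompletion I B) Φ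
    have hrange := range_map_eq (Φ.map α) Φb g k hk hgk
    have hginj : Function.Injective g.mulVecLin := by
      obtain ⟨gu, rfl⟩ := hg
      intro v w hvw
      have h1 := congrArg (fun z => (↑gu⁻¹ : Matrix (Fin b) (Fin b) Bh).mulVec z) hvw
      simpa [Matrix.mulVec_mulVec] using h1
    have hgsurj : Function.Surjective g.mulVecLin := by
      obtain ⟨gu, rfl⟩ := hg
      intro v
      refine ⟨(↑gu⁻¹ : Matrix (Fin b) (Fin b) Bh).mulVec v, ?_⟩
      rw [Matrix.mulVecLin_apply, Matrix.mulVec_mulVec, Units.mul_inv, Matrix.one_mulVec]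
    refine equiv_of_ker_eq q' (q ∘ₗ g.mulVecLin) hq' (hq.comp hgsurj) ?_
    rw [LinearMap.exact_iff.1 hex', LinearMap.ker_comp, LinearMap.exact_iff.1 hex, ← hφ, ← hrange,
      Submodule.comap_map_eq_of_injective hginj]

end K589.ElkikModule
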