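import Groth.Agent.Hensel.MvHensel
import Mathlib.RingTheory.Nakayama
import Mathlib.Algebra.MvPolynomial.PDeriv
import Mathlib.Tactic.LinearCombination

/-!
# Newton's lemma for non-square systems over a henselian pair `(B, (t))`

`f : κ → B[X_ι]` is a system of equations, `S` a matrix such that `J S` acts on the conormal module
`𝔣 / 𝔣²` as `t ^ k` and `(J S)² = t ^ k J S` modulo `𝔣` (such an `S` exists when the system becomes smooth
after inverting `t`).  If `t` is a non-zero-divisor and `f (x) ∈ t ^ N` with `N > 2 k`, then there is a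
solution `y` with `y ≡ x` modulo `t ^ (N - k)`.
-/

set_option autoImplicit false
universe u v

namespace K589.ElkikNewton

open MvPolynomial

section Taylor

variable {B : Type*} [CommRing B] {ι : Type*} [Fintype ι] {C : Type*} [CommRing C] [Algebra B C]

omit [Fintype ι] in
theorem taylor1 (p : MvPolynomial ι B) (a h : ι → C) (s : C) :
    ∃ q, aeval (fun j => a j + s * h j) p = aeval a p + s * q := by
  induction p using MvPolynomial.induction_on with
  | C b => exact ⟨0, by simp⟩
  | add p q hp hq =>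
    obtain ⟨r, hr⟩ := hp
    obtain ⟨r', hr'⟩ := hq
    exact ⟨r + r', by rw [map_add, map_add, hr, hr']; ring⟩
  | mul_X p j hp =>
    obtain ⟨r, hr⟩ := hp
    refine ⟨aeval a p * h j + r * a j + s * r * h j, ?_⟩
    rw [map_mul, map_mul, hr, aeval_X, aeval_X]
    ring

theorem taylor2 [DecidableEq ι] (p : MvPolynomial ι B) (a h : ι → C) (s : C) :
    ∃ q, aeval (fun j => a j + s * h j) p =
      aeval a p + s * ∑ j, aeval a (pderiv j p) * h j + s ^ 2 * q := by
  induction p using MvPolynomial.induction_on with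
  | C b => exact ⟨0, by simp⟩
  | add p q hp hq =>
    obtain ⟨r, hr⟩ := hp
    obtain ⟨r', hr'⟩ := hq
    refine ⟨r + r', ?_⟩
    simp only [map_add, hr, hr', add_mul, Finset.sum_add_distrib]
    ring
  | mul_X p j hp =>
    obtain ⟨r, hr⟩ := hp
    refine ⟨(∑ i, aeval a (pderiv i p) * h i) * h j + r * a j + s * r * h j, ?_⟩
    have h1 : ∑ i, aeval a (pderiv i (p * X j)) * h i =
        (∑ i, aeval a (pderiv i p) * h i) * a j + aeval a p * h j := by
      have h2 : ∀ i, aeval a (pderiv i (p * X j)) * h i =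
          aeval a (pderiv i p) * h i * a j + (if i = j then aeval a p * h i else 0) := by
        intro i
        rw [Derivation.leibniz, pderiv_X, smul_eq_mul, smul_eq_mul, map_add, map_mul, map_mul, aeval_X]
        by_cases hij : i = j
        · subst hij
          simp only [Pi.single_eq_same, map_one, if_true]
          ring
        · rw [if_neg hij, Pi.single_eq_of_ne (Ne.symm hij)]
          simp only [map_zero]
          ring
      rw [Finset.sum_congr rfl fun i _ => h2 i, Finset.sum_add_distrib, Finset.sum_mul]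
      simp
    rw [h1, map_mul, map_mul, hr, aeval_X, aeval_X]
    ring

end Taylor

/-- The Jacobian matrix of a system of equations. -/
noncomputable def jacob {B : Type*} [CommRing B] {ι κ : Type*} (f : κ → MvPolynomial ι B) :
    Matrix κ ι (MvPolynomial ι B) :=
  Matrix.of fun i j => pderiv j (f i)

/-- The matrix `S` splits the conormal sequence of the system `f` up to `t ^ k`: modulo the square of
the ideal of `f`, `t ^ k f = J S f` (`J` the Jacobian matrix). -/
def Cert {B : Type*} [CommRing B] {ι κ : Type*} [Fintype ι] [Fintype κ] (t : B)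
    (f : κ → MvPolynomial ι B) (k : ℕ) (S : Matrix ι κ (MvPolynomial ι B)) : Prop :=
  ∀ i, C (t ^ k) * f i - ∑ l, (jacob f * S) i l * f l ∈ Ideal.span (Set.range f) ^ 2

theorem pderiv_mem_of_mem_sq {B : Type*} [CommRing B] {ι : Type*} (I : Ideal (MvPolynomial ι B)) (j : ι)
    (p : MvPolynomial ι B) (hp : p ∈ I ^ 2) : pderiv j p ∈ I := by
  rw [sq] at hp
  refine Submodule.mul_induction_on hp (fun a ha b hb => ?_) (fun a b ha hb => ?_)
  · rw [Derivation.leibniz, smul_eq_mul, smul_eq_mul]
    exact add_mem (Ideal.mul_mem_right _ _ ha) (Ideal.mul_mem_right _ _ hb)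
  · rw [map_add]; exact add_mem ha hb

/-- `(J S)² = t ^ k J S` modulo the ideal of `f`. -/
theorem Cert.idem {B : Type*} [CommRing B] {ι κ : Type*} [Fintype ι] [Fintype κ] {t : B}
    {f : κ → MvPolynomial ι B} {k : ℕ} {S : Matrix ι κ (MvPolynomial ι B)} (h : Cert t f k S) (i l : κ) :
    (jacob f * S * (jacob f * S)) i l - C (t ^ k) * (jacob f * S) i l ∈ Ideal.span (Set.range f) := by
  have hf : ∀ l, f l ∈ Ideal.span (Set.range f) := fun l => Ideal.subset_span ⟨l, rfl⟩
  have h1 : ∀ j, C (t ^ k) * jacob f i j - ∑ l, (jacob f * S) i l * jacob f l j ∈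
      Ideal.span (Set.range f) := by
    intro j
    have h2 := pderiv_mem_of_mem_sq _ j _ (h i)
    rw [map_sub, Derivation.leibniz, pderiv_C, smul_zero, add_zero, map_sum] at h2
    have h3 : ∑ l, pderiv j ((jacob f * S) i l * f l) =
        ∑ l, (jacob f * S) i l * jacob f l j + ∑ l, pderiv j ((jacob f * S) i l) * f l := by
      rw [← Finset.sum_add_distrib]
      refine Finset.sum_congr rfl fun l _ => ?_
      rw [Derivation.leibniz, smul_eq_mul, smul_eq_mul]
      simp only [jacob, Matrix.of_apply]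
      ring
    rw [h3] at h2
    have h4 : ∑ l, pderiv j ((jacob f * S) i l) * f l ∈ Ideal.span (Set.range f) :=
      Ideal.sum_mem _ fun l _ => Ideal.mul_mem_left _ _ (hf l)
    have h5 := add_mem h2 h4
    have h6 : (C (t ^ k) : MvPolynomial ι B) • pderiv j (f i) - (∑ l, (jacob f * S) i l * jacob f l j +
        ∑ l, pderiv j ((jacob f * S) i l) * f l) + ∑ l, pderiv j ((jacob f * S) i l) * f l =
        C (t ^ k) * jacob f i j - ∑ l, (jacob f * S) i l * jacob f l j := by
      rw [smul_eq_mul]
      simp only [jacob, Matrix.of_apply]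
      ring
    rwa [h6] at h5
  have h7 : (jacob f * S * (jacob f * S)) i l - C (t ^ k) * (jacob f * S) i l =
      - ∑ j, (C (t ^ k) * jacob f i j - ∑ l, (jacob f * S) i l * jacob f l j) * S j l := by
    have e1 : (jacob f * S * (jacob f * S)) i l = ∑ j, (∑ l', (jacob f * S) i l' * jacob f l' j) * S j l := by
      rw [← Matrix.mul_assoc, Matrix.mul_apply]
      rfl
    have e2 : C (t ^ k) * (jacob f * S) i l = ∑ j, C (t ^ k) * jacob f i j * S j l := by
      rw [Matrix.mul_apply, Finset.mul_sum]
      refine Finset.sum_congr rfl fun j _ => by ring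
    rw [e1, e2, ← Finset.sum_sub_distrib, ← Finset.sum_neg_distrib]
    refine Finset.sum_congr rfl fun j _ => by ring
  rw [h7]
  exact neg_mem (Ideal.sum_mem _ fun j _ => Ideal.mul_mem_right _ _ (h1 j))

theorem Cert.map {B : Type*} [CommRing B] {ι κ : Type*} [Fintype ι] [Fintype κ] {t : B}
    {f : κ → MvPolynomial ι B} {k : ℕ} {S : Matrix ι κ (MvPolynomial ι B)} (h : Cert t f k S)
    {B' : Type*} [CommRing B'] (φ : B →+* B') :
    Cert (φ t) (fun i => MvPolynomial.map φ (f i)) k (S.map (MvPolynomial.map φ)) := by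
  have hJ : jacob (fun i => MvPolynomial.map φ (f i)) = (jacob f).map (MvPolynomial.map φ) := by
    ext i j : 1
    simp [jacob, pderiv_map]
  have hspan : (Ideal.span (Set.range f)).map (MvPolynomial.map φ) =
      Ideal.span (Set.range fun i => MvPolynomial.map φ (f i)) := by
    rw [Ideal.map_span, ← Set.range_comp]
    rfl
  intro i
  have h1 := Ideal.mem_map_of_mem (MvPolynomial.map φ) (h i)
  rw [Ideal.map_pow, hspan] at h1
  rw [hJ, ← Matrix.map_mul]
  simpa using h1

section Newton

variable {B : Type u} [CommRing B] {ι κ : Type} [Fintype ι] [Fintype κ] [DecidableEq ι] [DecidableEq κ]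

/-- The polynomial system in `W` whose root gives the solution. -/
theorem exists_system (t : B) (f : κ → MvPolynomial ι B) (k : ℕ) (S : Matrix ι κ (MvPolynomial ι B))
    (N : ℕ) (hN : 2 * k < N) (x : ι → B) (c : κ → B) (hx : ∀ i, eval x (f i) = t ^ N * c i) :
    ∃ G : κ → MvPolynomial κ B, ∀ (w : κ → B) (y : ι → B),
      (∀ j, y j = x j + t ^ (N - k) * ∑ l, eval x (S j l) * w l) → ∀ i,
      t ^ N * (c i + w i + t * eval w (G i)) =
        eval y (f i) + t ^ (N - k) * (t ^ k * w i - ∑ l, eval y ((jacob f * S) i l) * w l) := by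
  let a : ι → MvPolynomial κ B := fun j => C (x j)
  let h : ι → MvPolynomial κ B := fun j => ∑ l, C (eval x (S j l)) * X l
  let s : MvPolynomial κ B := C (t ^ (N - k))
  have haev : ∀ p : MvPolynomial ι B, aeval a p = C (eval x p) := by
    intro p
    have : (aeval a : MvPolynomial ι B →ₐ[B] MvPolynomial κ B) =
        (Algebra.ofId B (MvPolynomial κ B)).comp (aeval x) := by
      ext j
      simp [a, Algebra.ofId_apply, algebraMap_eq]
    rw [this, AlgHom.comp_apply, aeval_eq_eval]
    rfl
  choose q hq using fun i => taylor2 (f i) a h s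
  choose r hr using fun (i l : κ) => taylor1 ((jacob f * S) i l) a h s
  refine ⟨fun i => C (t ^ (N - 2 * k - 1)) * (q i - ∑ l, r i l * X l), fun w y hy i => ?_⟩
  have hyw : ∀ p : MvPolynomial ι B, eval w (aeval (fun j => a j + s * h j) p) = eval y p := by
    intro p
    have : ((eval w).comp (aeval (fun j => a j + s * h j) :
        MvPolynomial ι B →ₐ[B] MvPolynomial κ B).toRingHom) = eval y := by
      apply MvPolynomial.ringHom_ext
      · intro b
        simp [algebraMap_eq]
      · intro j
        simp [a, s, h, hy]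
    exact DFunLike.congr_fun this p
  have h1 : eval y (f i) = t ^ N * c i + t ^ (N - k) * (∑ l, eval x ((jacob f * S) i l) * w l) +
      (t ^ (N - k)) ^ 2 * eval w (q i) := by
    rw [← hyw (f i), hq i, haev, map_add, map_add, eval_C, hx i, map_mul, map_mul, map_pow, map_sum]
    have h2 : ∑ j, eval w (aeval a (pderiv j (f i)) * h j) =
        ∑ l, eval x ((jacob f * S) i l) * w l := by
      simp only [haev, map_mul, eval_C, h, map_sum, eval_X, Matrix.mul_apply, jacob, Matrix.of_apply,
        Finset.mul_sum, Finset.sum_mul]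
      rw [Finset.sum_comm]
      refine Finset.sum_congr rfl fun l _ => Finset.sum_congr rfl fun j _ => by ring
    rw [h2]
    simp [s]
  have h3 : ∀ l, eval y ((jacob f * S) i l) = eval x ((jacob f * S) i l) +
      t ^ (N - k) * eval w (r i l) := by
    intro l
    rw [← hyw, hr i l, haev, map_add, map_mul, eval_C]
    simp [s]
  rw [h1]
  simp only [h3, add_mul, Finset.sum_add_distrib]
  have h4 : ∑ l, t ^ (N - k) * eval w (r i l) * w l = t ^ (N - k) * ∑ l, eval w (r i l) * w l := by
    rw [Finset.mul_sum]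
    refine Finset.sum_congr rfl fun l _ => by ring
  rw [h4]
  simp only [map_mul, map_sub, map_sum, eval_C, eval_X, map_pow]
  obtain ⟨d, rfl⟩ : ∃ d, N = 2 * k + 1 + d := ⟨N - (2 * k + 1), by omega⟩
  have e1 : 2 * k + 1 + d - k = k + 1 + d := by omega
  have e2 : 2 * k + 1 + d - 2 * k - 1 = d := by omega
  rw [e1, e2]
  ring

theorem ideal_eq_bot (t : B) (htB : t ∈ Ideal.jacobson (⊥ : Ideal B)) (a : Ideal B) (hfg : a.FG)
    (h : ∀ x ∈ a, ∃ y ∈ a, x = t * y) : a = ⊥ := by
  refine Submodule.eq_bot_of_le_smul_of_le_jacobson_bot (Ideal.span {t}) a hfg ?_ ?_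
  · intro x hx
    obtain ⟨y, hy, rfl⟩ := h x hx
    exact Submodule.smul_mem_smul (Ideal.mem_span_singleton_self t) hy
  · rw [Ideal.span_le, Set.singleton_subset_iff]
    exact htB

/-- **Newton's lemma (principal case)**. -/
theorem exists_solution (t : B) (ht : ∀ b : B, t * b = 0 → b = 0) [hh : HenselianRing B (Ideal.span {t})]
    (f : κ → MvPolynomial ι B) (k : ℕ) (S : Matrix ι κ (MvPolynomial ι B)) (hS : Cert t f k S)
    (N : ℕ) (hN : 2 * k < N) (x : ι → B) (hx : ∀ i, t ^ N ∣ eval x (f i)) :
    ∃ y : ι → B, (∀ i, eval y (f i) = 0) ∧ ∀ j, t ^ (N - k) ∣ y j - x j := by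
  have htj : t ∈ Ideal.jacobson (⊥ : Ideal B) := hh.jac (Ideal.mem_span_singleton_self t)
  choose c hc using hx
  obtain ⟨G, hG⟩ := exists_system t f k S N hN x c hc
  -- solve the square system
  let F : κ → MvPolynomial κ B := fun i => C (c i) + X i + C t * G i
  have hroot : ∃ w : κ → B, ∀ i, c i + w i + t * eval w (G i) = 0 := by
    obtain ⟨w, hw, -⟩ := Groth.Agent.Hensel.MvHensel.exists_root (I := Ideal.span {t}) F (fun i => - c i)
      (fun i => by
        simp only [F, map_add, map_mul, eval_C, eval_X]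
        rw [add_neg_cancel, zero_add]
        exact Ideal.mul_mem_right _ _ (Ideal.mem_span_singleton_self t))
      (by
        have h1 : (Ideal.Quotient.mk (Ideal.span {t})) (eval (fun i => - c i)
            (Groth.Agent.Hensel.MvHensel.jac F).det) = 1 := by
          rw [RingHom.map_det, RingHom.map_det]
          have : ((Ideal.Quotient.mk (Ideal.span {t})).mapMatrix ((eval fun i => -c i).mapMatrix
              (Groth.Agent.Hensel.MvHensel.jac F))) = 1 := by
            ext i j
            simp only [RingHom.mapMatrix_apply, Matrix.map_apply, Groth.Agent.Hensel.MvHensel.jac,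
              Matrix.of_apply, F, map_add, pderiv_C, Derivation.leibniz, smul_eq_mul, pderiv_X,
              map_mul, eval_C, map_zero, mul_zero, add_zero, zero_add]
            have h0 : (Ideal.Quotient.mk (Ideal.span {t})) t = 0 :=
              Ideal.Quotient.eq_zero_iff_mem.2 (Ideal.mem_span_singleton_self t)
            rw [h0, zero_mul, add_zero]
            rw [Matrix.one_apply]
            by_cases hij : i = j
            · subst hij
              simp
            · rw [if_neg hij, Pi.single_eq_of_ne (Ne.symm hij)]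
              simp
          rw [this, Matrix.det_one]
        rw [h1]
        exact isUnit_one)
    refine ⟨w, fun i => ?_⟩
    have h := hw i
    simpa [F] using h
  obtain ⟨w, hw⟩ := hroot
  let y : ι → B := fun j => x j + t ^ (N - k) * ∑ l, eval x (S j l) * w l
  have hy : ∀ i, eval y (f i) + t ^ (N - k) * (t ^ k * w i - ∑ l, eval y ((jacob f * S) i l) * w l) = 0 := by
    intro i
    rw [← hG w y (fun j => rfl) i, hw i, mul_zero]
  set ψ : κ → B := fun i => eval y (f i) with hψ
  set Q : Matrix κ κ B := (jacob f * S).map (eval y) with hQ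
  set 𝔞 : Ideal B := Ideal.span (Set.range ψ) with h𝔞
  have hmap : (Ideal.span (Set.range f)).map (eval y) = 𝔞 := by
    rw [Ideal.map_span, ← Set.range_comp]
    rfl
  have hψ' : ∀ i, ψ i = - (t ^ (N - k) * (t ^ k * w i - ∑ l, Q i l * w l)) := fun i =>
    eq_neg_of_add_eq_zero_left (hy i)
  have hψmem : ∀ i, ψ i ∈ 𝔞 := fun i => Ideal.subset_span ⟨i, rfl⟩
  have h𝔞s : 𝔞 ≤ Ideal.span {t ^ (N - k)} := by
    rw [h𝔞, Ideal.span_le]
    rintro _ ⟨i, rfl⟩
    rw [SetLike.mem_coe, Ideal.mem_span_singleton, hψ' i]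
    exact (Dvd.intro _ rfl).neg_right
  -- idempotent relation
  have hidem : ∀ i p, ∑ l, Q i l * Q l p - t ^ k * Q i p ∈ 𝔞 := by
    intro i p
    have h1 := Ideal.mem_map_of_mem (eval y) (hS.idem i p)
    rw [hmap] at h1
    have h2 : eval y ((jacob f * S * (jacob f * S)) i p - C (t ^ k) * (jacob f * S) i p) =
        ∑ l, Q i l * Q l p - t ^ k * Q i p := by
      rw [Matrix.mul_apply, map_sub, map_sum, map_mul, eval_C]
      simp only [map_mul, hQ, Matrix.map_apply]
    rwa [h2] at h1
  -- `Q ψ ∈ s 𝔞`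
  have h1 : ∀ i, ∃ b ∈ 𝔞, ∑ l, Q i l * ψ l = t ^ (N - k) * b := by
    intro i
    refine ⟨∑ p, (∑ l, Q i l * Q l p - t ^ k * Q i p) * w p,
      Ideal.sum_mem _ fun p _ => Ideal.mul_mem_right _ _ (hidem i p), ?_⟩
    simp only [hψ']
    have e1 : ∀ l, Q i l * -(t ^ (N - k) * (t ^ k * w l - ∑ p, Q l p * w p)) =
        t ^ (N - k) * (∑ p, Q i l * Q l p * w p - t ^ k * Q i l * w l) := by
      intro l
      have : ∑ p, Q i l * Q l p * w p = Q i l * ∑ p, Q l p * w p := by
        rw [Finset.mul_sum]
        refine Finset.sum_congr rfl fun p _ => by ring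
      rw [this]; ring
    rw [Finset.sum_congr rfl fun l _ => e1 l, ← Finset.mul_sum, Finset.sum_sub_distrib, Finset.sum_comm]
    congr 1
    simp only [sub_mul, Finset.sum_mul, Finset.sum_sub_distrib]
  -- conormal relation
  have h2 : ∀ i, t ^ k * ψ i - ∑ l, Q i l * ψ l ∈ 𝔞 ^ 2 := by
    intro i
    have h3 := Ideal.mem_map_of_mem (eval y) (hS i)
    rw [Ideal.map_pow, hmap] at h3
    have h4 : eval y (C (t ^ k) * f i - ∑ l, (jacob f * S) i l * f l) =
        t ^ k * ψ i - ∑ l, Q i l * ψ l := by
      rw [map_sub, map_mul, eval_C, map_sum]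
      simp only [map_mul, hQ, hψ, Matrix.map_apply]
    rwa [h4] at h3
  have hsq : ∀ z ∈ 𝔞 ^ 2, ∃ b ∈ 𝔞, z = t ^ (N - k) * b := by
    intro z hz
    have : 𝔞 ^ 2 ≤ Ideal.span {t ^ (N - k)} * 𝔞 := by
      rw [sq]
      exact Ideal.mul_mono_left h𝔞s
    obtain ⟨b, hb, hb'⟩ := Ideal.mem_span_singleton_mul.1 (this hz)
    exact ⟨b, hb, hb'.symm⟩
  have hpow : ∀ (e : ℕ) (b : B), t ^ e * b = 0 → b = 0 := by
    intro e
    induction e with
    | zero => intro b hb; simpa using hb
    | succ e ih =>
      intro b hb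
      refine ht b (ih _ ?_)
      rw [← hb]; ring
  have h5 : ∀ i, ∃ b ∈ 𝔞, ψ i = t * b := by
    intro i
    obtain ⟨b, hb, hb'⟩ := h1 i
    obtain ⟨b', hb1, hb2⟩ := hsq _ (h2 i)
    refine ⟨t ^ (N - 2 * k - 1) * (b + b'), Ideal.mul_mem_left _ _ (add_mem hb hb1), ?_⟩
    have h6 : t ^ k * (ψ i - t * (t ^ (N - 2 * k - 1) * (b + b'))) = 0 := by
      have h7 : t ^ k * ψ i = t ^ (N - k) * (b + b') := by
        rw [mul_add, ← hb', ← hb2]; ring
      have e3 : t ^ (N - k) = t ^ k * (t * t ^ (N - 2 * k - 1)) := by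
        rw [← pow_succ', ← pow_add]
        congr 1
        omega
      rw [mul_sub, h7, e3]
      ring
    exact sub_eq_zero.1 (hpow k _ h6)
  have h𝔞0 : 𝔞 = ⊥ := by
    refine ideal_eq_bot t htj 𝔞 ⟨(Set.finite_range ψ).toFinset, by rw [Set.Finite.coe_toFinset]⟩ ?_
    intro z hz
    have : 𝔞 ≤ Ideal.span {t} * 𝔞 := by
      conv_lhs => rw [h𝔞]
      rw [Ideal.span_le]
      rintro _ ⟨i, rfl⟩
      obtain ⟨b, hb, hb'⟩ := h5 i
      rw [SetLike.mem_coe, hb']
      exact Ideal.mul_mem_mul (Ideal.mem_span_singleton_self t) hb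
    obtain ⟨b, hb, hb'⟩ := Ideal.mem_span_singleton_mul.1 (this hz)
    exact ⟨b, hb, hb'.symm⟩
  refine ⟨y, fun i => ?_, fun j => ?_⟩
  · have := hψmem i
    rw [h𝔞0] at this
    exact this
  · exact ⟨∑ l, eval x (S j l) * w l, by simp only [y]; ring⟩

end Newton

end K589.ElkikNewton
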