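import Groth.Agent.ParaF.K589.ElkikGeneral
import Groth.Agent.ParaF.K589.ElkikCert

/-!
# Elkik's approximation theorem, uniformly in the system of equations

The order of approximation needed depends only on the ring, the sequence of elements and the exponent `k` of
the certificates, not on the system.
-/

set_option autoImplicit false
universe u v

namespace K589.ElkikUniform

open MvPolynomial K589.ElkikNewton K589.ElkikGeneral

theorem Cert.mono {B : Type*} [CommRing B] {ι κ : Type*} [Fintype ι] [Fintype κ] {t : B}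
    {f : κ → MvPolynomial ι B} {k : ℕ} {S : Matrix ι κ (MvPolynomial ι B)} (h : Cert t f k S)
    {k' : ℕ} (hk : k ≤ k') : ∃ S', Cert t f k' S' := by
  refine ⟨(C (t ^ (k' - k)) : MvPolynomial ι B) • S, fun i => ?_⟩
  have h1 := Ideal.mul_mem_left _ (C (t ^ (k' - k))) (h i)
  convert h1 using 1
  have e : C (t ^ k') = C (t ^ (k' - k)) * (C (t ^ k) : MvPolynomial ι B) := by
    rw [← C_mul, ← pow_add]; congr 2; omega
  rw [e, Matrix.mul_smul, mul_sub, Finset.mul_sum]
  simp only [Matrix.smul_apply, smul_eq_mul, mul_assoc]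

/-- The certificate in terms of a vector of corrections. -/
theorem sum_jacob_mul {B : Type*} [CommRing B] {ι κ : Type*} [Fintype ι] [Fintype κ]
    (f : κ → MvPolynomial ι B) (S : Matrix ι κ (MvPolynomial ι B)) (i : κ) :
    ∑ l, (jacob f * S) i l * f l = ∑ j, pderiv j (f i) * ∑ l, S j l * f l := by
  simp only [Matrix.mul_apply, jacob, Matrix.of_apply, Finset.sum_mul, Finset.mul_sum]
  rw [Finset.sum_comm]
  refine Finset.sum_congr rfl fun j _ => Finset.sum_congr rfl fun l _ => by ring

/-- **Elkik's approximation theorem**, uniformly in the system. -/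
theorem exists_solution_uniform {B : Type u} {inst : CommRing B} {ts : List B}
    (hg : GoodSeq B inst ts) : HenselianRing B (Ideal.ofList ts) → ∀ (k n : ℕ), ∃ N : ℕ,
    ∀ (ι κ : Type) [Fintype ι] [Fintype κ] [DecidableEq ι] [DecidableEq κ] (f : κ → MvPolynomial ι B),
    (∀ t ∈ ts, ∃ (S : Matrix ι κ (MvPolynomial ι B)), Cert t f k S) →
    ∀ x : ι → B, (∀ i, eval x (f i) ∈ Ideal.ofList ts ^ N) →
    ∃ y : ι → B, (∀ i, eval y (f i) = 0) ∧ ∀ j, y j - x j ∈ Ideal.ofList ts ^ n := by
  induction hg with
  | nil B inst =>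
    intro hh k n
    refine ⟨1, fun ι κ _ _ _ _ f hf x hx => ⟨x, fun i => ?_, fun j => by rw [sub_self]; exact zero_mem _⟩⟩
    have := hx i
    rw [pow_one, Ideal.ofList_nil] at this
    exact this
  | cons B inst t ts c hc h ih =>
    intro hh k n
    let M : ℕ := 2 * k + 1 + c + n
    let K : Ideal B := Ideal.span {t ^ M}
    let π : B →+* B ⧸ K := Ideal.Quotient.mk K
    have hle : Ideal.span {t} ≤ Ideal.ofList (t :: ts) := by
      rw [Ideal.ofList_cons]; exact le_sup_left
    have hle2 : Ideal.ofList ts ≤ Ideal.ofList (t :: ts) := by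
      rw [Ideal.ofList_cons]; exact le_sup_right
    have ht : HenselianRing B (Ideal.span {t}) := henselian_of_le hle hh
    have hh1 : HenselianRing (B ⧸ K) (Ideal.ofList (ts.map π)) := by
      refine henselian_of_le ?_ (henselian_quotient _ K hh)
      rw [← Ideal.map_ofList]
      exact Ideal.map_mono hle2
    obtain ⟨N', hN'⟩ := ih M hh1 k n
    refine ⟨M + N', fun ι κ _ _ _ _ f hf x hx => ?_⟩
    obtain ⟨S, hS⟩ := hf t (by simp)
    have hpow : Ideal.ofList (t :: ts) ^ (M + N') ≤ K ⊔ Ideal.ofList ts ^ N' := by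
      rw [Ideal.ofList_cons]
      refine (Ideal.sup_pow_add_le_pow_sup_pow).trans ?_
      rw [Ideal.span_singleton_pow]
    obtain ⟨y₁, hy₁, hxy₁⟩ := hN' ι κ (fun i => MvPolynomial.map π (f i)) (fun t' ht' => by
      obtain ⟨s, hs, rfl⟩ := List.mem_map.1 ht'
      obtain ⟨S', hS'⟩ := hf s (by simp [hs])
      exact ⟨_, hS'.map π⟩) (fun j => π (x j)) (fun i => by
      rw [eval_map_apply]
      change _ ∈ Ideal.ofList (ts.map π) ^ N'
      rw [← Ideal.map_ofList, ← Ideal.map_pow]
      have h2 := Ideal.mem_map_of_mem π (hpow (hx i))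
      rw [Ideal.map_sup, Ideal.map_quotient_self, bot_sup_eq] at h2
      exact h2)
    choose z hz using fun j => Ideal.Quotient.mk_surjective (y₁ j)
    have hz1 : ∀ i, t ^ M ∣ eval z (f i) := by
      intro i
      rw [← Ideal.mem_span_singleton, ← Ideal.Quotient.eq_zero_iff_mem]
      change π _ = 0
      rw [← eval_map_apply, ← hy₁ i]
      congr 2
      exact funext fun j => hz j
    obtain ⟨y, hy, hyz⟩ := exists_solution_of_bounded t c hc ht f k _ hS M (by omega) (by omega) z hz1
    refine ⟨y, hy, fun j => ?_⟩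
    have h1 : y j - z j ∈ Ideal.ofList (t :: ts) ^ n := by
      obtain ⟨d, hd⟩ := hyz j
      rw [hd]
      have h2 : t ^ (M - k) ∈ Ideal.ofList (t :: ts) ^ (M - k) :=
        Ideal.pow_mem_pow (hle (Ideal.mem_span_singleton_self _)) _
      exact Ideal.mul_mem_right _ _ (Ideal.pow_le_pow_right (by omega) h2)
    have h3 : z j - x j ∈ Ideal.ofList (t :: ts) ^ n := by
      have h4 := hxy₁ j
      rw [← hz j] at h4
      change π (z j) - π (x j) ∈ Ideal.ofList (ts.map π) ^ n at h4
      rw [← Ideal.map_ofList, ← Ideal.map_pow, ← map_sub, Ideal.mem_quotient_iff_mem_sup] at h4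
      have h5 : Ideal.ofList ts ^ n ⊔ K ≤ Ideal.ofList (t :: ts) ^ n := by
        refine sup_le (Ideal.pow_right_mono hle2 n) ?_
        rw [Ideal.span_le, Set.singleton_subset_iff]
        have h2 : t ^ M ∈ Ideal.ofList (t :: ts) ^ M :=
          Ideal.pow_mem_pow (hle (Ideal.mem_span_singleton_self _)) _
        exact Ideal.pow_le_pow_right (by omega) h2
      exact h5 h4
    have h6 := add_mem h1 h3
    rwa [sub_add_sub_cancel] at h6

end K589.ElkikUniform
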