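import Groth.Agent.FormalA.InvSpread

/-!
# Invertible modules on opens of affine schemes and modules of rank one

* `exists_finite`: an invertible module on an open of a Noetherian affine scheme is the restriction of
  `N~`, `N` finite, free of rank one at the points of the open.
* `isInvertible_of_rank_one`: conversely `M~` is invertible on an open if `M` is finitely presented and
  free of rank one at the points of the open.
* `pullbackTildeIso`: pullback of `M~|_V`.
-/

set_option autoImplicit false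
universe u
open CategoryTheory CategoryTheory.Limits AlgebraicGeometry TopologicalSpace Opposite
open Groth.Agent.Ega4dA.GenSec Groth.Agent.Ega4dA.SpecGen Groth.Agent.Ega4dA.ParaBig
open Groth.Agent.Ega4dA.ParaDepth Groth.Agent.FormalB.TildeOpen Groth.Agent.FormalA.InvSpread
open scoped TensorProduct

namespace K589.PicExt

section alg

variable {R : Type u} [CommRing R] {N : Type u} [AddCommGroup N] [Module R N]

theorem mk_surj {S : Submonoid R} (y : LocalizedModule S N) :
    ∃ x : N × S, LocalizedModule.mk x.1 x.2 = y := by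
  induction y using LocalizedModule.induction_on with
  | h n s => exact ⟨(n, s), rfl⟩

theorem exists_equiv_of_gen (p : Ideal R) [p.IsPrime] {g : R} (hg : g ∉ p) (e : N)
    (h1 : ∀ a : R, a • e = 0 → ∃ k : ℕ, g ^ k * a = 0)
    (h2 : ∀ n : N, ∃ (k : ℕ) (a : R), g ^ k • n = a • e) :
    Nonempty (Localization.AtPrime p ≃ₗ[Localization.AtPrime p] LocalizedModule p.primeCompl N) := by
  let gp : ∀ k : ℕ, p.primeCompl := fun k =>
    ⟨g ^ k, fun h => hg (Ideal.IsPrime.mem_of_pow_mem inferInstance _ h)⟩
  refine ⟨LinearEquiv.ofBijective (LinearMap.toSpanSingleton (Localization.AtPrime p) _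
    (LocalizedModule.mkLinearMap p.primeCompl N e)) ⟨?_, ?_⟩⟩
  · rw [injective_iff_map_eq_zero]
    intro x hx
    obtain ⟨r, s, rfl⟩ := IsLocalization.exists_mk'_eq p.primeCompl x
    rw [LinearMap.toSpanSingleton_apply, ← Localization.mk_eq_mk', LocalizedModule.mkLinearMap_apply,
      LocalizedModule.mk_smul_mk, ← LocalizedModule.zero_mk (s * 1), LocalizedModule.mk_eq] at hx
    obtain ⟨c, hc⟩ := hx
    rw [smul_zero, smul_zero] at hc
    have hc' : ((c : R) * ((s * 1 : p.primeCompl) : R) * r) • e = 0 := by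
      rw [mul_smul, mul_smul]; exact hc
    obtain ⟨k, hk⟩ := h1 _ hc'
    rw [IsLocalization.mk'_eq_zero_iff]
    exact ⟨gp k * (c * (s * 1)), by
      change (g ^ k * ((c : R) * ((s * 1 : p.primeCompl) : R))) * r = 0
      rw [← hk]; ring⟩
  · intro y
    obtain ⟨⟨n, s⟩, rfl⟩ := mk_surj y
    obtain ⟨k, a, hk⟩ := h2 n
    refine ⟨Localization.mk a (gp k * s), ?_⟩
    rw [LinearMap.toSpanSingleton_apply, LocalizedModule.mkLinearMap_apply,
      LocalizedModule.mk_smul_mk]
    change LocalizedModule.mk (a • e) (gp k * s * 1) = LocalizedModule.mk n s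
    rw [LocalizedModule.mk_eq]
    refine ⟨1, ?_⟩
    rw [one_smul, one_smul, ← hk]
    change (s : R) • g ^ k • n = (g ^ k * (s : R) * 1) • n
    rw [← mul_smul]
    congr 1
    ring

theorem exists_gen_of_rank_one [Module.FinitePresentation R N] (q : Ideal R) [q.IsPrime]
    (l : LocalizedModule q.primeCompl N ≃ₗ[Localization.AtPrime q] Localization.AtPrime q) :
    ∃ g ∉ q, ∃ e : N, (∀ a : R, a • e = 0 → ∃ k : ℕ, g ^ k * a = 0) ∧
      (∀ n : N, ∃ (k : ℕ) (a : R), g ^ k • n = a • e) := by
  have hl := Module.FinitePresentation.exists_lift_equiv_of_isLocalizedModule q.primeCompl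
    (LocalizedModule.mkLinearMap q.primeCompl N) (Algebra.linearMap R (Localization.AtPrime q))
    (l.restrictScalars R)
  obtain ⟨g, hg, l', -⟩ := hl
  obtain ⟨⟨e, ⟨_, j, rfl⟩⟩, he⟩ := mk_surj
    (l'.symm (LocalizedModule.mk (1 : R) (1 : Submonoid.powers g)))
  simp only at he
  have key : ∀ a : R, l' (LocalizedModule.mk (a • e) 1) =
      (g ^ j * a) • LocalizedModule.mk (1 : R) (1 : Submonoid.powers g) := by
    intro a
    have h1 : LocalizedModule.mk (a • e) (1 : Submonoid.powers g) =
        (g ^ j * a) • LocalizedModule.mk e (⟨g ^ j, j, rfl⟩ : Submonoid.powers g) := by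
      rw [LocalizedModule.smul'_mk, LocalizedModule.mk_eq]
      refine ⟨1, ?_⟩
      rw [one_smul, one_smul]
      change (g ^ j) • (a • e) = (1 : R) • ((g ^ j * a) • e)
      rw [one_smul, mul_smul]
    rw [h1, he]
    have h2 : (g ^ j * a) • l'.symm (LocalizedModule.mk (1 : R) (1 : Submonoid.powers g)) =
        l'.symm ((g ^ j * a) • LocalizedModule.mk (1 : R) (1 : Submonoid.powers g)) :=
      ((l'.symm.restrictScalars R).map_smul _ _).symm
    rw [h2, LinearEquiv.apply_symm_apply]
  refine ⟨g, hg, e, fun a ha => ?_, fun n => ?_⟩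
  · have h1 := key a
    rw [ha, LocalizedModule.zero_mk, map_zero, LocalizedModule.smul'_mk,
      ← LocalizedModule.zero_mk (1 : Submonoid.powers g), LocalizedModule.mk_eq] at h1
    obtain ⟨⟨_, k, rfl⟩, hk⟩ := h1
    refine ⟨k + j, ?_⟩
    have hk' : (0 : R) = g ^ k * ((g ^ j * a) * 1) := by
      have := hk
      simpa [Submonoid.smul_def] using this
    rw [pow_add, mul_assoc]
    rw [mul_one] at hk'
    exact hk'.symm
  · obtain ⟨⟨a, ⟨_, i, rfl⟩⟩, ha⟩ := mk_surj
      (l' (LocalizedModule.mk n (1 : Submonoid.powers g)))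
    simp only at ha
    -- `g^(i + j) • n = a • e` up to `g`-torsion
    have h1 : l' (LocalizedModule.mk (g ^ (i + j) • n) 1) = l' (LocalizedModule.mk (a • e) 1) := by
      rw [key]
      have h2 : LocalizedModule.mk (g ^ (i + j) • n) (1 : Submonoid.powers g) =
          g ^ (i + j) • LocalizedModule.mk n (1 : Submonoid.powers g) := by
        rw [LocalizedModule.smul'_mk]
      have h3 : l' (g ^ (i + j) • LocalizedModule.mk n (1 : Submonoid.powers g)) =
          g ^ (i + j) • l' (LocalizedModule.mk n (1 : Submonoid.powers g)) :=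
        (l'.restrictScalars R).map_smul _ _
      rw [h2, h3, ← ha, LocalizedModule.smul'_mk, LocalizedModule.smul'_mk, LocalizedModule.mk_eq]
      refine ⟨1, ?_⟩
      rw [one_smul, one_smul]
      change g ^ (i + j) * a = 1 * (g ^ i * ((g ^ j * a) * 1))
      ring
    have h4 := l'.injective h1
    rw [LocalizedModule.mk_eq] at h4
    obtain ⟨⟨_, k, rfl⟩, hk⟩ := h4
    refine ⟨k + (i + j), g ^ k * a, ?_⟩
    rw [one_smul, one_smul] at hk
    rw [pow_add, mul_smul, mul_smul]
    exact hk

end alg

section scheme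

theorem exists_finite (R : Type u) [CommRing R] [IsNoetherianRing R]
    (W : (Spec (CommRingCat.of R)).Opens) (L : (W : Scheme.{u}).Modules)
    (hL : PicF.IsInvertible L) :
    ∃ (N : Type u) (_ : AddCommGroup N) (_ : Module R N) (_ : Module.Finite R N),
      Nonempty (L ≅ (tilde (R := CommRingCat.of R) (ModuleCat.of R N)).restrict W.ι) ∧
      ∀ p : PrimeSpectrum R, (show Spec (CommRingCat.of R) from p) ∈ W →
        Nonempty (Localization.AtPrime p.asIdeal ≃ₗ[Localization.AtPrime p.asIdeal]
          LocalizedModule p.asIdeal.primeCompl N) := by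
  obtain ⟨N, _, _, hfin, ⟨eL⟩⟩ := (Groth.Agent.S2269.result _ W L).1 (isCoh_of_isInvertible hL)
  have hinv : InvOn (tilde (R := CommRingCat.of R) (ModuleCat.of _ N)) W := by
    rw [invOn_iff]
    exact isInvertible_of_iso eL hL
  refine ⟨N, inferInstance, inferInstance, hfin, ⟨eL⟩, fun p hp => ?_⟩
  obtain ⟨W', hWU, hyW, s, hs⟩ := hinv _ hp
  obtain ⟨g, hgW, hyg⟩ := exists_bo_le hyW
  obtain ⟨e, he1, he2⟩ := exists_elt (hs.mono hgW)
  exact exists_equiv_of_gen p.asIdeal (g := g) hyg e he1 he2

theorem isInvertible_of_rank_one (R : Type u) [CommRing R] (V : (Spec (CommRingCat.of R)).Opens)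
    (M : Type u) [AddCommGroup M] [Module R M] [Module.FinitePresentation R M]
    (h : ∀ p : PrimeSpectrum R, (show Spec (CommRingCat.of R) from p) ∈ V →
        Nonempty (LocalizedModule p.asIdeal.primeCompl M ≃ₗ[Localization.AtPrime p.asIdeal]
          Localization.AtPrime p.asIdeal)) :
    PicF.IsInvertible ((tilde (R := CommRingCat.of R) (ModuleCat.of R M)).restrict V.ι) := by
  rw [← invOn_iff]
  intro y hy
  obtain ⟨l⟩ := h y hy
  have : (PrimeSpectrum.asIdeal (R := R) y).IsPrime := PrimeSpectrum.isPrime (R := R) y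
  obtain ⟨g, hg, e, he1, he2⟩ := exists_gen_of_rank_one (N := M) (PrimeSpectrum.asIdeal (R := R) y) l
  have hyg : y ∈ (bo (R := CommRingCat.of R) g ⊓ V : (Spec (CommRingCat.of R)).Opens) := ⟨hg, hy⟩
  exact ⟨bo g ⊓ V, inf_le_right, hyg, _,
    (isGen_sec (R := CommRingCat.of R) (M := ModuleCat.of R M) (f := g) (m := e) he1 he2).mono
      inf_le_left⟩

/-- Pullback of `M~|_V`. -/
noncomputable def pullbackIso (R S : Type u) [CommRing R] [CommRing S] [Algebra R S]
    (M : Type u) [AddCommGroup M] [Module R M] (V : (Spec (CommRingCat.of R)).Opens) :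
    (Scheme.Modules.pullback ((Spec.map (CommRingCat.ofHom (algebraMap R S))) ∣_ V)).obj
      ((tilde (R := CommRingCat.of R) (ModuleCat.of R M)).restrict V.ι) ≅
    (tilde (R := CommRingCat.of S) (ModuleCat.of S (S ⊗[R] M))).restrict
      ((Spec.map (CommRingCat.ofHom (algebraMap R S))) ⁻¹ᵁ V).ι :=
  (Scheme.Modules.pullback _).mapIso ((Scheme.Modules.restrictFunctorIsoPullback V.ι).app _) ≪≫
    (Scheme.Modules.pullbackComp _ _).app _ ≪≫
    (Scheme.Modules.pullbackCongr (morphismRestrict_ι _ V)).app _ ≪≫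
    (Scheme.Modules.pullbackComp _ _).symm.app _ ≪≫
    (Scheme.Modules.pullback _).mapIso
      (Groth.Agent.Ega1.TildePullback.pullbackTildeIso R S M) ≪≫
    (Scheme.Modules.restrictFunctorIsoPullback
      ((Spec.map (CommRingCat.ofHom (algebraMap R S))) ⁻¹ᵁ V).ι).symm.app _

/-- `N~|_W ≅ N'~|_W` for isomorphic modules. -/
noncomputable def tildeIso (R : Type u) [CommRing R] (W : (Spec (CommRingCat.of R)).Opens)
    {N N' : Type u} [AddCommGroup N] [Module R N] [AddCommGroup N'] [Module R N'] (e : N ≃ₗ[R] N') :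
    (tilde (R := CommRingCat.of R) (ModuleCat.of R N)).restrict W.ι ≅
    (tilde (R := CommRingCat.of R) (ModuleCat.of R N')).restrict W.ι :=
  (Scheme.Modules.restrictFunctor W.ι).mapIso
    ((tilde.functor (CommRingCat.of R)).mapIso (LinearEquiv.toModuleIso (R := R) e))

end scheme

end K589.PicExt
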