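import Groth.Agent.ParaF.K589.ElkikUniform
import Mathlib.LinearAlgebra.Matrix.ToLin

/-!
# Systems of equations for matrices with locally split image

* `sys1`: matrices `Φ` together with `Ψ_c` such that `Φ Ψ_c Φ = T_c ^ N Φ`.
* `sys2`: pairs `(g, h)` with `g Φ = Φ' h` for two such matrices.
Both are smooth where one of the `T_c` is invertible.
-/

set_option autoImplicit false
universe u v

namespace K589.RegMat

open MvPolynomial K589.ElkikNewton

section Small

variable {D : Type*} [CommRing D] {l m n o : Type*} [Fintype l] [Fintype m] [Fintype n] [Fintype o]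

/-- All entries of the matrix lie in the ideal. -/
def Sm (I : Ideal D) (M : Matrix m n D) : Prop := ∀ i j, M i j ∈ I

omit [Fintype m] [Fintype n] in
theorem Sm.add {I : Ideal D} {M M' : Matrix m n D} (h : Sm I M) (h' : Sm I M') : Sm I (M + M') :=
  fun i j => add_mem (h i j) (h' i j)

omit [Fintype m] [Fintype n] in
theorem Sm.sub {I : Ideal D} {M M' : Matrix m n D} (h : Sm I M) (h' : Sm I M') : Sm I (M - M') :=
  fun i j => sub_mem (h i j) (h' i j)

omit [Fintype m] [Fintype n] in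
theorem Sm.neg {I : Ideal D} {M : Matrix m n D} (h : Sm I M) : Sm I (-M) :=
  fun i j => neg_mem (h i j)

omit [Fintype m] [Fintype n] in
theorem Sm.smul {I : Ideal D} {M : Matrix m n D} (h : Sm I M) (a : D) : Sm I (a • M) :=
  fun i j => Ideal.mul_mem_left _ _ (h i j)

omit [Fintype l] [Fintype n] in
theorem Sm.mul_left {I : Ideal D} {M : Matrix m n D} (h : Sm I M) (A : Matrix l m D) : Sm I (A * M) :=
  fun i j => by
    rw [Matrix.mul_apply]
    exact Ideal.sum_mem _ fun k _ => Ideal.mul_mem_left _ _ (h k j)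

omit [Fintype m] [Fintype o] in
theorem Sm.mul_right {I : Ideal D} {M : Matrix m n D} (h : Sm I M) (A : Matrix n o D) : Sm I (M * A) :=
  fun i j => by
    rw [Matrix.mul_apply]
    exact Ideal.sum_mem _ fun k _ => Ideal.mul_mem_right _ _ (h i k)

omit [Fintype l] [Fintype n] in
theorem Sm.mul_eq_zero {I : Ideal D} (hI : I ^ 2 = ⊥) {M : Matrix l m D} {M' : Matrix m n D} (h : Sm I M)
    (h' : Sm I M') : M * M' = 0 := by
  ext i j
  rw [Matrix.mul_apply, Matrix.zero_apply, ← Ideal.mem_bot, ← hI, sq]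
  exact Ideal.sum_mem _ fun k _ => Ideal.mul_mem_mul (h i k) (h' k j)

end Small

section Lift

variable {D : Type*} [CommRing D] {m n : Type*} [Fintype m] [Fintype n]

/-- Lifting a matrix with a generalized inverse along a square zero ideal. -/
theorem lift_phi [DecidableEq m] [DecidableEq n] (I : Ideal D) (hI : I ^ 2 = ⊥) (Φ : Matrix m n D) (Ψ : Matrix n m D)
    (h : Sm I (Φ * Ψ * Φ - Φ)) :
    ∃ Φ' : Matrix m n D, Φ' * Ψ * Φ' = Φ' ∧ Sm I (Φ' - Φ) := by
  have hz : (Φ * Ψ * Φ - Φ) * Ψ * (Φ * Ψ * Φ - Φ) = 0 :=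
    Sm.mul_eq_zero hI (h.mul_right Ψ) h
  refine ⟨(3 : D) • (Φ * Ψ * Φ) - (2 : D) • (Φ * Ψ * Φ * Ψ * Φ), ?_, ?_⟩
  · rw [← sub_eq_zero]
    have key : ((3 : D) • (Φ * Ψ * Φ) - (2 : D) • (Φ * Ψ * Φ * Ψ * Φ)) * Ψ *
        ((3 : D) • (Φ * Ψ * Φ) - (2 : D) • (Φ * Ψ * Φ * Ψ * Φ)) -
        ((3 : D) • (Φ * Ψ * Φ) - (2 : D) • (Φ * Ψ * Φ * Ψ * Φ)) =
        (4 : D) • (Φ * Ψ * Φ * Ψ * ((Φ * Ψ * Φ - Φ) * Ψ * (Φ * Ψ * Φ - Φ))) -
        (4 : D) • (Φ * Ψ * ((Φ * Ψ * Φ - Φ) * Ψ * (Φ * Ψ * Φ - Φ))) -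
        (3 : D) • ((Φ * Ψ * Φ - Φ) * Ψ * (Φ * Ψ * Φ - Φ)) := by
      simp only [Matrix.mul_sub, Matrix.sub_mul, Matrix.mul_smul, Matrix.smul_mul, Matrix.mul_assoc]
      module
    rw [key, hz]
    simp
  · have e1 : (3 : D) • (Φ * Ψ * Φ) - (2 : D) • (Φ * Ψ * Φ * Ψ * Φ) - Φ =
        (Φ * Ψ * Φ - Φ) - (2 : D) • ((Φ * Ψ * Φ - Φ) * Ψ * Φ) := by
      simp only [Matrix.sub_mul, Matrix.mul_assoc]
      module
    rw [e1]
    exact h.sub (((h.mul_right Ψ).mul_right Φ).smul 2)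

/-- Solving `Φ X Φ = A` with `X` small. -/
theorem solve_phi (Φ A : Matrix m n D) (Ψ : Matrix n m D) (h : Φ * Ψ * Φ = Φ) (B : Matrix n m D) (s : D)
    (hA : A = s • Φ - Φ * B * Φ) : Φ * (B + Ψ * A * Ψ) * Φ = s • Φ := by
  have h1 : Φ * Ψ * A = A := by
    rw [hA, Matrix.mul_sub, Matrix.mul_smul, h, ← Matrix.mul_assoc, ← Matrix.mul_assoc, h]
  have h2 : A * Ψ * Φ = A := by
    rw [hA, Matrix.sub_mul, Matrix.sub_mul, Matrix.smul_mul, Matrix.smul_mul, h, Matrix.mul_assoc,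
      Matrix.mul_assoc, ← Matrix.mul_assoc Φ Ψ Φ, h]
  rw [Matrix.mul_add, Matrix.add_mul]
  have h3 : Φ * (Ψ * A * Ψ) * Φ = A := by
    rw [← Matrix.mul_assoc, ← Matrix.mul_assoc, h1, h2]
  rw [h3, hA]
  abel

/-- **Lifting solutions of `sys1`.** -/
theorem lift_sys1 [DecidableEq m] [DecidableEq n] {c : Type*} (I : Ideal D) (hI : I ^ 2 = ⊥) (N : ℕ)
    (T : c → D) (c₀ : c) (hT : IsUnit (T c₀)) (Φ : Matrix m n D) (Ψ : c → Matrix n m D)
    (h : ∀ s, Sm I (Φ * Ψ s * Φ - T s ^ N • Φ)) :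
    ∃ (Φ' : Matrix m n D) (Ψ' : c → Matrix n m D), (∀ s, Φ' * Ψ' s * Φ' = T s ^ N • Φ') ∧
      Sm I (Φ' - Φ) ∧ ∀ s, Sm I (Ψ' s - Ψ s) := by
  obtain ⟨w, hw⟩ := hT.pow N
  have hv : (↑w⁻¹ : D) * T c₀ ^ N = 1 := by rw [← hw, Units.inv_mul]
  obtain ⟨Φ', h1, h2⟩ := lift_phi I hI Φ ((↑w⁻¹ : D) • Ψ c₀) (by
    have := (h c₀).smul (↑w⁻¹ : D)
    rw [smul_sub, smul_smul, hv, one_smul] at this
    simpa only [Matrix.mul_smul, Matrix.smul_mul] using this)
  set Θ : Matrix n m D := (↑w⁻¹ : D) • Ψ c₀ with hΘ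
  refine ⟨Φ', fun s => Ψ s + Θ * (T s ^ N • Φ' - Φ' * Ψ s * Φ') * Θ,
    fun s => solve_phi Φ' _ Θ h1 (Ψ s) _ rfl, h2, fun s => ?_⟩
  rw [add_sub_cancel_left]
  refine Sm.mul_right (Sm.mul_left ?_ _) _
  have e1 : T s ^ N • Φ' - Φ' * Ψ s * Φ' =
      -(Φ * Ψ s * Φ - T s ^ N • Φ) + T s ^ N • (Φ' - Φ) - (Φ' - Φ) * Ψ s * Φ' - Φ * Ψ s * (Φ' - Φ) := by
    simp only [Matrix.mul_sub, Matrix.sub_mul, smul_sub]
    abel
  rw [e1]
  exact (((h s).neg.add (h2.smul _)).sub ((h2.mul_right _).mul_right _)).sub (h2.mul_left _)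

/-- **Lifting solutions of `sys2`.** -/
theorem lift_sys2 [DecidableEq m] [DecidableEq n] (I : Ideal D) (Φ Φ' : Matrix m n D) (Ψ Ψ' : Matrix n m D)
    (h : Φ * Ψ * Φ = Φ) (h' : Φ' * Ψ' * Φ' = Φ') (g : Matrix m m D) (k : Matrix n n D)
    (hgk : Sm I (g * Φ - Φ' * k)) :
    ∃ (g' : Matrix m m D) (k' : Matrix n n D), g' * Φ = Φ' * k' ∧ Sm I (g' - g) ∧ Sm I (k' - k) := by
  refine ⟨g - (g * Φ - Φ' * k) * Ψ, k + Ψ' * (g * Φ - Φ' * k) * (1 - Ψ * Φ), ?_, ?_, ?_⟩
  · rw [← sub_eq_zero]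
    have key : (g - (g * Φ - Φ' * k) * Ψ) * Φ - Φ' * (k + Ψ' * (g * Φ - Φ' * k) * (1 - Ψ * Φ)) =
        g * (Φ - Φ * Ψ * Φ) - Φ' * Ψ' * g * (Φ - Φ * Ψ * Φ) - (Φ' - Φ' * Ψ' * Φ') * k * (1 - Ψ * Φ) := by
      simp only [Matrix.mul_sub, Matrix.sub_mul, Matrix.mul_add, Matrix.mul_one, Matrix.mul_assoc]
      abel
    rw [key, h, h', sub_self, sub_self]
    simp
  · rw [sub_sub_cancel_left]
    exact (hgk.mul_right _).neg
  · rw [add_sub_cancel_left]
    exact (hgk.mul_left _).mul_right _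

end Lift

section Sys1

variable {m n c : Type} [Fintype m] [Fintype n] [Fintype c] [DecidableEq m] [DecidableEq n] [DecidableEq c]

/-- The unknowns of `sys1`: the entries of `Φ` and of the `Ψ_c`. -/
abbrev Idx (m n c : Type) : Type := (m × n) ⊕ (c × n × m)

/-- The matrix `Φ`. -/
def phi {D : Type*} (x : Idx m n c → D) : Matrix m n D := Matrix.of fun i j => x (Sum.inl (i, j))

/-- The matrices `Ψ_c`. -/
def psi {D : Type*} (x : Idx m n c → D) (s : c) : Matrix n m D :=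
  Matrix.of fun k l => x (Sum.inr (s, k, l))

/-- The unknowns from the matrices. -/
def ofMat {D : Type*} (Φ : Matrix m n D) (Ψ : c → Matrix n m D) : Idx m n c → D :=
  Sum.elim (fun p => Φ p.1 p.2) (fun p => Ψ p.1 p.2.1 p.2.2)

omit [Fintype m] [Fintype n] [Fintype c] [DecidableEq m] [DecidableEq n] [DecidableEq c] in
@[simp] theorem phi_ofMat {D : Type*} (Φ : Matrix m n D) (Ψ : c → Matrix n m D) : phi (ofMat Φ Ψ) = Φ := rfl

omit [Fintype m] [Fintype n] [Fintype c] [DecidableEq m] [DecidableEq n] [DecidableEq c] in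
@[simp] theorem psi_ofMat {D : Type*} (Φ : Matrix m n D) (Ψ : c → Matrix n m D) : psi (ofMat Φ Ψ) = Ψ := rfl

/-- The generic `Φ`. -/
noncomputable abbrev PhiX (R : Type*) [CommRing R] : Matrix m n (MvPolynomial (Idx m n c) R) :=
  phi (fun j => X j)

/-- The generic `Ψ_c`. -/
noncomputable abbrev PsiX (R : Type*) [CommRing R] (s : c) : Matrix n m (MvPolynomial (Idx m n c) R) :=
  psi (fun j => X j) s

/-- The system `Φ Ψ_c Φ = T_c ^ N Φ`. -/
noncomputable def sys1 {R : Type*} [CommRing R] (N : ℕ) (T : c → R) (q : c × m × n) :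
    MvPolynomial (Idx m n c) R :=
  (PhiX R * PsiX R q.1 * PhiX R : Matrix m n (MvPolynomial (Idx m n c) R)) q.2.1 q.2.2 -
    C (T q.1 ^ N) * (PhiX R : Matrix m n (MvPolynomial (Idx m n c) R)) q.2.1 q.2.2

omit [Fintype c] [DecidableEq m] [DecidableEq n] [DecidableEq c] in
theorem eval₂_sys1 {R : Type*} [CommRing R] {D : Type*} [CommRing D] (φ : R →+* D) (N : ℕ) (T : c → R)
    (x : Idx m n c → D) (q : c × m × n) :
    eval₂ φ x (sys1 N T q) = (phi x * psi x q.1 * phi x - φ (T q.1) ^ N • phi x) q.2.1 q.2.2 := by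
  have h1 : (PhiX R : Matrix m n (MvPolynomial (Idx m n c) R)).map (eval₂Hom φ x) = phi x := by
    ext i j; simp [phi]
  have h2 : ∀ s, (PsiX R s : Matrix n m (MvPolynomial (Idx m n c) R)).map (eval₂Hom φ x) =
      psi x s := by
    intro s; ext i j; simp [psi]
  have h3 : (PhiX R * PsiX R q.1 * PhiX R :
      Matrix m n (MvPolynomial (Idx m n c) R)).map (eval₂Hom φ x) = phi x * psi x q.1 * phi x := by
    rw [Matrix.map_mul, Matrix.map_mul, h1, h2]
  have h4 : eval₂Hom φ x ((PhiX R * PsiX R q.1 * PhiX R :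
      Matrix m n (MvPolynomial (Idx m n c) R)) q.2.1 q.2.2) =
      (phi x * psi x q.1 * phi x) q.2.1 q.2.2 := by
    rw [← h3]; rfl
  have h5 : eval₂Hom φ x ((PhiX R : Matrix m n (MvPolynomial (Idx m n c) R)) q.2.1 q.2.2) =
      phi x q.2.1 q.2.2 := by
    rw [← h1]; rfl
  change eval₂Hom φ x (sys1 N T q) = _
  rw [sys1, map_sub, map_mul, Matrix.sub_apply, Matrix.smul_apply, smul_eq_mul, h4, h5]
  simp

/-- `sys1` has a certificate at each `T_c`. -/
theorem cert_sys1 {R : Type u} [CommRing R] (N : ℕ) (T : c → R) (c₀ : c) :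
    ∃ (k : ℕ) (S : Matrix (Idx m n c) (c × m × n) (MvPolynomial (Idx m n c) R)),
      Cert (T c₀) (sys1 N T) k S := by
  refine ElkikCert.exists_cert_of_lift (T c₀) (sys1 N T) ?_
  intro D _ φ hT I hI x hx
  obtain ⟨Φ', Ψ', h1, h2, h3⟩ := lift_sys1 I hI N (fun s => φ (T s)) c₀ hT (phi x) (psi x)
    (fun s i j => by
      have := hx (s, i, j)
      rwa [eval₂_sys1] at this)
  refine ⟨ofMat Φ' Ψ', fun q => ?_, fun j => ?_⟩
  · rw [eval₂_sys1, phi_ofMat, psi_ofMat, h1, sub_self, Matrix.zero_apply]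
  · rcases j with ⟨i, j⟩ | ⟨s, i, j⟩
    · exact h2 i j
    · exact h3 s i j

end Sys1

section Sys2

variable {m n c : Type} [Fintype m] [Fintype n] [Fintype c] [DecidableEq m] [DecidableEq n] [DecidableEq c]

/-- The unknowns of `sys2`. -/
abbrev Idx2 (m n : Type) : Type := (m × m) ⊕ (n × n)

/-- The matrix `g`. -/
def gm {D : Type*} (x : Idx2 m n → D) : Matrix m m D := Matrix.of fun i j => x (Sum.inl (i, j))

/-- The matrix `k`. -/
def km {D : Type*} (x : Idx2 m n → D) : Matrix n n D := Matrix.of fun i j => x (Sum.inr (i, j))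

/-- The system `g Φ = Φ' k`. -/
noncomputable def sys2 {R : Type*} [CommRing R] (Φ Φ' : Matrix m n R) (q : m × n) :
    MvPolynomial (Idx2 m n) R :=
  ∑ l, X (Sum.inl (q.1, l)) * C (Φ l q.2) - ∑ l, C (Φ' q.1 l) * X (Sum.inr (l, q.2))

omit [DecidableEq m] [DecidableEq n] in
theorem eval_sys2 {R : Type*} [CommRing R] (Φ Φ' : Matrix m n R)
    (x : Idx2 m n → R) (q : m × n) :
    eval x (sys2 Φ Φ' q) = (gm x * Φ - Φ' * km x) q.1 q.2 := by
  simp [sys2, Matrix.mul_apply, gm, km]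

/-- `sys2` has an explicit certificate with exponent `2 N`. -/
theorem cert_sys2 {R : Type*} [CommRing R] (Φ Φ' : Matrix m n R) (Ψ Ψ' : Matrix n m R) (T : R) (N : ℕ)
    (h : Φ * Ψ * Φ = T ^ N • Φ) (h' : Φ' * Ψ' * Φ' = T ^ N • Φ') :
    ∃ S, Cert T (sys2 Φ Φ') (N + N) S := by
  -- the matrix of equations
  let P := MvPolynomial (Idx2 m n) R
  let E : Matrix m n P := Matrix.of fun i j => sys2 Φ Φ' (i, j)
  let G : Matrix m m P := gm (fun j => X j)
  let K : Matrix n n P := km (fun j => X j)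
  let Φc : Matrix m n P := Φ.map C
  let Φc' : Matrix m n P := Φ'.map C
  let Ψc : Matrix n m P := Ψ.map C
  let Ψc' : Matrix n m P := Ψ'.map C
  let t : P := C (T ^ N)
  have hE : E = G * Φc - Φc' * K := by
    ext i j : 1
    simp [E, G, K, Φc, Φc', sys2, Matrix.mul_apply, gm, km]
  have hc : Φc * Ψc * Φc = t • Φc := by
    have := congrArg (fun M => M.map (C : R →+* P)) h
    simp only [Matrix.map_mul] at this
    rw [this]
    ext i j : 1
    simp [Φc, t]
  have hc' : Φc' * Ψc' * Φc' = t • Φc' := by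
    have := congrArg (fun M => M.map (C : R →+* P)) h'
    simp only [Matrix.map_mul] at this
    rw [this]
    ext i j : 1
    simp [Φc', t]
  let S : Matrix (Idx2 m n) (m × n) P := Matrix.of fun p q =>
    Sum.elim (fun p => if p.1 = q.1 then t * Ψc q.2 p.2 else 0)
      (fun p => - (Ψc' p.1 q.1 * (if q.2 = p.2 then t else 0) - Ψc' p.1 q.1 * (Ψc * Φc) q.2 p.2)) p
  have hS1 : ∀ i l, ∑ q, S (Sum.inl (i, l)) q * sys2 Φ Φ' q = (t • (E * Ψc)) i l := by
    intro i l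
    rw [Matrix.smul_apply, Matrix.mul_apply, Fintype.sum_prod_type, smul_eq_mul, Finset.mul_sum]
    rw [Finset.sum_eq_single i]
    · refine Finset.sum_congr rfl fun j _ => ?_
      simp only [S, Matrix.of_apply, Sum.elim_inl, if_true, E]
      ring
    · intro b _ hb
      refine Finset.sum_eq_zero fun j _ => ?_
      simp only [S, Matrix.of_apply, Sum.elim_inl]
      rw [if_neg (Ne.symm hb), zero_mul]
    · intro hi; exact absurd (Finset.mem_univ i) hi
  have hS2 : ∀ l j, ∑ q, S (Sum.inr (l, j)) q * sys2 Φ Φ' q =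
      (-(t • (Ψc' * E) - Ψc' * E * (Ψc * Φc))) l j := by
    intro l j
    have e1 : (Ψc' * E * (Ψc * Φc)) l j = ∑ q : m × n, Ψc' l q.1 * (Ψc * Φc) q.2 j * sys2 Φ Φ' q := by
      rw [Matrix.mul_apply, Fintype.sum_prod_type, Finset.sum_comm]
      refine Finset.sum_congr rfl fun b _ => ?_
      rw [Matrix.mul_apply, Finset.sum_mul]
      refine Finset.sum_congr rfl fun a _ => ?_
      simp only [E, Matrix.of_apply]
      ring
    have e2 : (t • (Ψc' * E)) l j = ∑ q : m × n, Ψc' l q.1 * (if q.2 = j then t else 0) * sys2 Φ Φ' q := by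
      rw [Matrix.smul_apply, Matrix.mul_apply, Fintype.sum_prod_type, smul_eq_mul, Finset.mul_sum]
      refine Finset.sum_congr rfl fun a _ => ?_
      rw [Finset.sum_eq_single j]
      · rw [if_pos rfl]
        simp only [E, Matrix.of_apply]; ring
      · intro b _ hb
        rw [if_neg hb, mul_zero, zero_mul]
      · intro hi; exact absurd (Finset.mem_univ j) hi
    rw [Matrix.neg_apply, Matrix.sub_apply, e1, e2, ← Finset.sum_sub_distrib, ← Finset.sum_neg_distrib]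
    refine Finset.sum_congr rfl fun q _ => ?_
    simp only [S, Matrix.of_apply, Sum.elim_inr]
    ring
  have hd : ∀ (v : Idx2 m n → P) (q : m × n), ∑ p, pderiv p (sys2 Φ Φ' q) * v p =
      (gm v * Φc - Φc' * km v) q.1 q.2 := by
    intro v q
    have hp1 : ∀ p, pderiv p (sys2 Φ Φ' q) =
        ∑ l, (if (Sum.inl (q.1, l) : Idx2 m n) = p then C (Φ l q.2) else 0) -
        ∑ l, (if (Sum.inr (l, q.2) : Idx2 m n) = p then C (Φ' q.1 l) else 0) := by
      intro p
      rw [sys2, map_sub, map_sum, map_sum]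
      congr 1
      · refine Finset.sum_congr rfl fun l _ => ?_
        rw [Derivation.leibniz, pderiv_C, smul_zero, zero_add, pderiv_X, smul_eq_mul]
        by_cases hp : (Sum.inl (q.1, l) : Idx2 m n) = p
        · rw [if_pos hp, hp, Pi.single_eq_same, mul_one]
        · rw [if_neg hp, Pi.single_eq_of_ne hp, mul_zero]
      · refine Finset.sum_congr rfl fun l _ => ?_
        rw [Derivation.leibniz, pderiv_C, smul_zero, add_zero, pderiv_X, smul_eq_mul]
        by_cases hp : (Sum.inr (l, q.2) : Idx2 m n) = p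
        · rw [if_pos hp, hp, Pi.single_eq_same, mul_one]
        · rw [if_neg hp, Pi.single_eq_of_ne hp, mul_zero]
    simp only [hp1, sub_mul, Finset.sum_sub_distrib, Finset.sum_mul, Matrix.sub_apply, Matrix.mul_apply]
    congr 1
    · rw [Finset.sum_comm]
      refine Finset.sum_congr rfl fun l _ => ?_
      rw [Finset.sum_eq_single (Sum.inl (q.1, l) : Idx2 m n)]
      · rw [if_pos rfl]
        simp only [gm, Matrix.of_apply, Φc, Matrix.map_apply]
        ring
      · intro b _ hb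
        rw [if_neg (Ne.symm hb), zero_mul]
      · intro hi; exact absurd (Finset.mem_univ _) hi
    · rw [Finset.sum_comm]
      refine Finset.sum_congr rfl fun l _ => ?_
      rw [Finset.sum_eq_single (Sum.inr (l, q.2) : Idx2 m n)]
      · rw [if_pos rfl]
        simp only [km, Matrix.of_apply, Φc', Matrix.map_apply]
      · intro b _ hb
        rw [if_neg (Ne.symm hb), zero_mul]
      · intro hi; exact absurd (Finset.mem_univ _) hi
  refine ⟨S, fun q => ?_⟩
  rw [ElkikUniform.sum_jacob_mul, hd]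
  have hg : gm (fun j => ∑ l, S j l * sys2 Φ Φ' l) = t • (E * Ψc) := by
    ext i l : 1
    exact hS1 i l
  have hk : km (fun j => ∑ l, S j l * sys2 Φ Φ' l) = -(t • (Ψc' * E) - Ψc' * E * (Ψc * Φc)) := by
    ext i l : 1
    exact hS2 i l
  rw [hg, hk]
  have hz : (t * t) • E - (t • (E * Ψc) * Φc - Φc' * -(t • (Ψc' * E) - Ψc' * E * (Ψc * Φc))) = 0 := by
    have e1 : G * Φc * Ψc * Φc = t • (G * Φc) := by
      rw [Matrix.mul_assoc, Matrix.mul_assoc, ← Matrix.mul_assoc Φc, hc, Matrix.mul_smul]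
    have e2 : Φc' * Ψc' * Φc' * K = t • (Φc' * K) := by
      rw [hc', Matrix.smul_mul]
    have key : (t * t) • E - (t • (E * Ψc) * Φc - Φc' * -(t • (Ψc' * E) - Ψc' * E * (Ψc * Φc))) =
        t • (t • (G * Φc) - G * Φc * Ψc * Φc) - Φc' * Ψc' * (t • (G * Φc) - G * Φc * Ψc * Φc) -
        t • (t • (Φc' * K) - Φc' * Ψc' * Φc' * K) +
        (t • (Φc' * K) - Φc' * Ψc' * Φc' * K) * Ψc * Φc := by
      rw [hE]
      simp only [Matrix.mul_sub, Matrix.sub_mul, Matrix.mul_smul, Matrix.smul_mul, Matrix.mul_assoc,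
        smul_sub, Matrix.mul_neg, smul_smul]
      abel
    rw [key, e1, e2]
    simp
  have := congrFun (congrFun hz q.1) q.2
  rw [Matrix.sub_apply, Matrix.smul_apply, Matrix.zero_apply, smul_eq_mul] at this
  have e3 : (C (T ^ (N + N)) : P) = t * t := by
    rw [pow_add, C_mul]
  rw [e3]
  change t * t * E q.1 q.2 - _ ∈ _
  rw [this]
  exact zero_mem _

end Sys2

end K589.RegMat
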